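import Cfsg.Agent.TransvComp.Orth

/-!
# Irreducible overgroups of a transvection-free complement in a Siegel group
-/

set_option autoImplicit false
set_option linter.unusedSectionVars false
set_option linter.unusedSimpArgs false
set_option linter.unnecessarySeqFocus false
set_option linter.unusedVariables false

namespace CfsgLib.TransvComp

open Module

variable {F V : Type*} [Field F] [CharP F 2] [Finite F] [AddCommGroup V] [Module F V]
  [FiniteDimensional F V] {B : LinearMap.BilinForm F V} {L : Subgroup (V ≃ₗ[F] V)}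

/-- Outside the rigid case the orbit is everything and the stabilizer has order at least eight. -/
theorem card_of_not_rigid (hS : Symp B) (hL : L ≤ Sp B) (hdim : finrank F V = 4)
    (hq : ∀ c : F, c ≠ 0 → c = 1) {e : V} {θ0 : V → F} (hc : Comp B L e θ0)
    (hR : ¬ Rigid B L e) : 120 ≤ Nat.card L := by
  unfold Rigid at hR
  push Not at hR
  obtain ⟨a, b, p, θ, ha, hb, hp, hθ, hab, hap, hne⟩ := hR
  have hba : B b a = 1 := by rw [comm hS, hab]
  have ha0 : a ≠ 0 := fun h => by rw [h, map_zero, LinearMap.zero_apply] at hab; exact zero_ne_one hab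
  obtain ⟨φ, hφ⟩ := InOrb.comp hS hL hc hb
  have h01 : ∀ c : F, c = 0 ∨ c = 1 := fun c => (em (c = 0)).imp id (hq c)
  obtain ⟨w, hw⟩ : ∃ w, w = p + b + B p b • a := ⟨_, rfl⟩
  rw [← hw] at hne
  have haw : B a w = 0 := by simp [hw, hap, hab, hS.self, CharTwo.add_self_eq_zero]
  have hbw : B b w = 0 := by simp [hw, hS.self, hba, comm hS b p, CharTwo.add_self_eq_zero]
  have hpe : p = b + (w + B p b • a) := by
    conv_rhs => rw [hw, add_assoc (p + b), vadd_self (F := F), add_zero, add_left_comm,
      vadd_self (F := F), add_zero]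
  -- `b + a` is in the orbit
  have hba' : InOrb L e (b + a) := by
    have h1 := hp.map (hθ.mem haw)
    have hκ : B p b + θ w = 1 := (h01 _).resolve_left fun h0 => hne (by
      have : B p b = θ w := CharTwo.add_eq_zero.1 h0
      rw [sx_apply hS haw, hba, hbw]
      conv_rhs => rw [hpe, this]
      simp; abel)
    have e1 : sx B a w (θ w) p = b + a := by
      rw [sx_apply hS haw]
      rw [comm hS p a, hap]
      conv_lhs => rw [hpe]
      simp only [map_add, map_smul, LinearMap.add_apply, LinearMap.smul_apply, smul_eq_mul, hS.self,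
        hbw, comm hS w a, haw]
      rw [show B p b = 1 + θ w by rw [← hκ, add_assoc, CharTwo.add_self_eq_zero, add_zero]]
      match_scalars <;> ring_nf <;> simp [two_eq_zero', four_eq_zero', three_eq_one', haw]
    rwa [e1] at h1
  -- every non-zero vector is in the orbit
  have all : ∀ v, v ≠ 0 → InOrb L e v := by
    intro v hv
    rcases h01 (B a v) with hav | hav
    · obtain ⟨u, hu⟩ : ∃ u, u = v + B b v • a := ⟨_, rfl⟩
      have hau : B a u = 0 := by simp [hu, hav, hS.self]
      have hbu : B b u = 0 := by simp [hu, hba, CharTwo.add_self_eq_zero]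
      have hvu : v = u + B b v • a := by rw [hu, add_assoc, vadd_self (F := F), add_zero]
      rcases eq_or_ne u 0 with h0 | h0
      · rcases h01 (B b v) with h | h
        · exact absurd (by rw [hvu, h0, h, zero_smul, add_zero]) hv
        · rw [hvu, h0, h, one_smul, zero_add]; exact ha
      have hau' : InOrb L e (a + u) := by
        rcases h01 (φ u) with hu' | hu'
        · have h1 := ha.map (hφ.mem hbu)
          rw [sx_apply hS hbu, hab, hau, hu'] at h1
          simpa using h1
        · have h1 := hba'.map (hφ.mem hbu)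
          rw [sx_apply hS hbu, hu'] at h1
          simp [hS.self, hab, hau, hbu] at h1
          rw [show b + a + u + b = a + u + (b + b) by abel, vadd_self (F := F), add_zero] at h1
          exact h1
      obtain ⟨w', hwa, hwu⟩ := exists_two hS ha0 (b := u) (fun t h => h0 (by
        have := hbu
        rw [h, map_smul, smul_eq_mul, hba, mul_one] at this
        rw [h, this, zero_smul])) 0 (1 + B b v)
      have haw' : B a w' = 0 := by rw [comm hS, hwa]
      have h1 := hau'.map (hθ.mem haw')
      rw [sx_apply hS haw'] at h1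
      simp [hS.self, comm hS u a, hau, haw', comm hS u w', hwu] at h1
      convert h1 using 1
      conv_lhs => rw [hvu]
      match_scalars <;> ring_nf <;> simp [two_eq_zero', CharTwo.add_self_eq_zero]
    · obtain ⟨w', hw'⟩ : ∃ w', w' = v + b + B v b • a := ⟨_, rfl⟩
      have haw' : B a w' = 0 := by simp [hw', hav, hab, hS.self, CharTwo.add_self_eq_zero]
      have hbw' : B b w' = 0 := by simp [hw', hS.self, hba, comm hS b v, CharTwo.add_self_eq_zero]
      have hve : v = b + (w' + B v b • a) := by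
        conv_rhs => rw [hw', add_assoc (v + b), vadd_self (F := F), add_zero, add_left_comm,
          vadd_self (F := F), add_zero]
      rcases h01 (B v b + θ w') with h | h
      · have h1 := hb.map (hθ.mem haw')
        rw [sx_apply hS haw', hba, hbw', ← CharTwo.add_eq_zero.1 h] at h1
        convert h1 using 1
        conv_lhs => rw [hve]
        simp; abel
      · have h1 := hba'.map (hθ.mem haw')
        rw [sx_apply hS haw'] at h1
        convert h1 using 1
        conv_lhs => rw [hve, show B v b = 1 + θ w' by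
          rw [← h, add_assoc, CharTwo.add_self_eq_zero, add_zero]]
        simp [hba, hbw', haw', hS.self, add_smul]
        abel
  -- the stabilizer
  let K : Subgroup (V ≃ₗ[F] V) :=
    { carrier := {g | ∃ w, B a w = 0 ∧ g = sx B a w (θ w)}
      one_mem' := ⟨0, map_zero _, by rw [(hθ.refines hS).zero hS, sx_zero hS]⟩
      mul_mem' := by
        rintro _ _ ⟨x, hx, rfl⟩ ⟨y, hy, rfl⟩
        exact ⟨x + y, by rw [map_add, hx, hy, add_zero],
          by rw [sx_mul hS hx hy, (hθ.refines hS).add x y hx hy]⟩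
      inv_mem' := by
        rintro _ ⟨x, hx, rfl⟩
        exact ⟨x, hx, inv_eq_of_mul_eq_one_right (sx_mul_self hS hx _)⟩ }
  have hKL : K ≤ L := by rintro _ ⟨x, hx, rfl⟩; exact hθ.mem hx
  haveI : Finite V := Module.finite_of_finite F
  haveI : Finite (V ≃ₗ[F] V) := Finite.of_injective _ LinearEquiv.toEquiv_injective
  let S := MulAction.stabilizer (↥L) a
  have hKS : K.subgroupOf L ≤ S := by
    rintro ⟨g, hg⟩ ⟨x, hx, hgx⟩
    show g a = a
    change g = _ at hgx
    rw [hgx, sx_apply hS hx, hS.self, hx]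
    simp
  have hKcard : 4 ≤ Nat.card (K.subgroupOf L) := by
    rw [Nat.card_congr (Subgroup.subgroupOfEquivOfLe hKL).toEquiv]
    obtain ⟨u, v, hau, hbu, hav, hbv, huv⟩ := exists_plane hS (by omega) hab
    have hmem : ∀ c : Bool × Bool, sx B a ((if c.1 then u else 0) + (if c.2 then v else 0))
        (θ ((if c.1 then u else 0) + (if c.2 then v else 0))) ∈ K := fun c =>
      ⟨_, by rcases c with ⟨_ | _, _ | _⟩ <;> simp [hau, hav], rfl⟩
    refine le_trans (by simp) (Nat.card_le_card_of_injective (fun c : Bool × Bool => (⟨_, hmem c⟩ : K))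
      fun c d h => ?_)
    have h' := congrArg (fun g : K => (g : V ≃ₗ[F] V)) h
    obtain ⟨t, ht⟩ := sx_inj hS ha0 (by rcases c with ⟨_ | _, _ | _⟩ <;> simp [hau, hav])
      (by rcases d with ⟨_ | _, _ | _⟩ <;> simp [hau, hav]) h'
    have h1 := congrArg (fun x => B x u) ht
    have h2 := congrArg (fun x => B x v) ht
    rcases c with ⟨_ | _, _ | _⟩ <;> rcases d with ⟨_ | _, _ | _⟩ <;>
      first | rfl | (simp [hau, hav, huv, hS.self, comm hS v u] at h1 h2)
  -- an element of the stabilizer outside `K`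
  obtain ⟨u, hau, hbu, hu⟩ := (hθ.refines hS).surj hS (by omega) hab 1
  have hu0 : u ≠ 0 := fun h => by
    rw [h, (hθ.refines hS).zero hS] at hu; exact zero_ne_one hu
  obtain ⟨ψ, hψ⟩ := InOrb.comp hS hL hc (all u hu0)
  have hua : B u a = 0 := by rw [comm hS, hau]
  have hg := hψ.mem hua
  have hψa : ψ a = 1 := (h01 _).resolve_left fun h0 => by
    rw [h0, sx_swap hS hua] at hg
    exact zero_ne_one (((hθ u hau 0).1 hg).trans hu)
  have hgS : (⟨_, hg⟩ : L) ∈ S := by
    show sx B u a (ψ a) a = a
    rw [sx_apply hS hua, comm hS a u, hua, hS.self]; simp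
  have hgK : (⟨_, hg⟩ : L) ∉ K.subgroupOf L := by
    rintro ⟨x, hx, hxe⟩
    obtain ⟨z, hza, hzu⟩ := exists_two hS ha0 (b := u) (fun t h => hu0 (by
      have := hbu
      rw [h, map_smul, smul_eq_mul, hba, mul_one] at this
      rw [h, this, zero_smul])) 0 1
    have h1 := congrArg (B b) (LinearEquiv.congr_fun hxe z)
    have h2 := congrArg (B z) (LinearEquiv.congr_fun hxe z)
    change B z (sx B u a (ψ a) z) = _ at h2
    rw [sx_apply hS hua, sx_apply hS hx, hψa] at h2
    simp [hza, hzu, hS.self] at h2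
  have hlt : K.subgroupOf L < S := lt_of_le_of_ne hKS fun h => hgK (h ▸ hgS)
  have hS8 : 8 ≤ Nat.card S := by
    have h1 := (Subgroup.card_dvd_of_le hKS)
    have h2 : Nat.card (K.subgroupOf L) ≠ Nat.card S := fun h =>
      hlt.ne (Subgroup.eq_of_le_of_card_ge hKS h.ge)
    obtain ⟨k, hk⟩ := h1
    rcases k with _ | _ | k
    · have : 0 < Nat.card S := Nat.card_pos
      omega
    · exact absurd (by simpa using hk.symm) h2
    · rw [hk]; nlinarith
  have horb : MulAction.orbit (↥L) a = {v | v ≠ 0} := by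
    ext v
    constructor
    · rintro ⟨g, rfl⟩ h
      exact ha0 ((g : V ≃ₗ[F] V).injective (h.trans (map_zero _).symm))
    · intro hv
      obtain ⟨g, hg, s, hs, rfl⟩ := all v hv
      obtain ⟨g', hg', s', hs', hga⟩ := ha
      refine ⟨⟨g * g'⁻¹, L.mul_mem hg (L.inv_mem hg')⟩, ?_⟩
      show (g * g'⁻¹) a = s • g e
      rw [hga, hq s' hs', one_smul, hq s hs, one_smul, LinearEquiv.mul_apply, inv_apply_self]
  have h15 : Nat.card (MulAction.orbit (↥L) a) = 15 := by
    rw [horb, show Nat.card {v : V | v ≠ 0} = Nat.card {v : V // v ≠ 0} from rfl]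
    haveI := Fintype.ofFinite V
    haveI := Fintype.ofFinite F
    have hF : Fintype.card F = 2 := by
      classical
      rw [← Finset.card_univ, show (Finset.univ : Finset F) = {0, 1} by
        ext x; simpa using h01 x]
      simp
    classical
    rw [Nat.card_eq_fintype_card, Fintype.card_subtype_compl, Fintype.card_subtype_eq,
      Module.card_eq_pow_finrank (K := F) (V := V), hF, hdim]
    norm_num
  have hidx := Subgroup.card_mul_index S
  rw [MulAction.index_stabilizer, ← Nat.card_coe_set_eq, h15] at hidx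
  omega

/-- Abstract form of the classification. -/
theorem classify (hS : Symp B) (hL : L ≤ Sp B) (hdim : 2 < finrank F V) {e : V} (he : e ≠ 0)
    {θ0 : V → F} (hθ : Refines B e θ0) (hX : ∀ w, B e w = 0 → sx B e w (θ0 w) ∈ L)
    (hirr : ∀ W : Submodule F V, (∀ g ∈ L, ∀ w ∈ W, g w ∈ W) → W = ⊥ ∨ W = ⊤) :
    (∀ (a : V) (r : F), sx B a 0 r ∈ L) ∨
    (∃ Q : QuadraticForm F V, Polar B Q ∧ (∀ g ∈ L, g ∈ Dickson.orth Q) ∧
      ∀ g ∈ Dickson.orth Q, Even (rk2 g) → g ∈ L) ∨
    ((∀ c : F, c ≠ 0 → c = 1) ∧ finrank F V ≤ 4 ∧ sx B e 0 1 ∉ L ∧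
      (finrank F V = 4 → 120 ≤ Nat.card L)) := by
  -- the orbit of `e` is not contained in its orthogonal
  obtain ⟨g0, hg0, hg0e⟩ : ∃ g ∈ L, B e (g e) ≠ 0 := by
    by_contra hcon
    push Not at hcon
    let W : Submodule F V := Submodule.span F {v | ∃ g ∈ L, v = g e}
    have hinv : ∀ g ∈ L, ∀ w ∈ W, g w ∈ W := by
      intro g hg w hw
      have : W.map g.toLinearMap ≤ W := by
        rw [Submodule.map_span, Submodule.span_le]
        rintro _ ⟨_, ⟨g', hg', rfl⟩, rfl⟩
        exact Submodule.subset_span ⟨g * g', L.mul_mem hg hg', rfl⟩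
      exact this ⟨w, hw, rfl⟩
    have heW : e ∈ W := Submodule.subset_span ⟨1, L.one_mem, rfl⟩
    rcases hirr W hinv with h | h
    · rw [h, Submodule.mem_bot] at heW; exact he heW
    · obtain ⟨v, hv⟩ := exists_one hS he
      have : W ≤ LinearMap.ker (B e) := Submodule.span_le.2 fun x ⟨g, hg, hx⟩ => by
        rw [hx]; exact hcon g hg
      have hv' := this (h ▸ (Submodule.mem_top : v ∈ ⊤))
      rw [LinearMap.mem_ker, comm hS, hv] at hv'
      exact one_ne_zero hv'
  by_cases hT : ∃ k : F, k ≠ 0 ∧ Pm B L k e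
  · obtain ⟨k, hk, hTk⟩ := hT
    exact Or.inl (all_transvections hS hL hdim hθ hX hk hTk ⟨g0, hg0, hg0e⟩)
  push Not at hT
  have hc : Comp B L e θ0 := fun w hw c => by
    refine ⟨fun h => ?_, fun h => h ▸ hX w hw⟩
    by_contra hne
    refine hT (c + θ0 w) (fun h0 => hne (CharTwo.add_eq_zero.1 h0)) ?_
    have := L.mul_mem h (hX w hw)
    rwa [sx_mul hS hw hw, vadd_self (F := F), hS.self, add_zero] at this
  right
  by_cases hR : Rigid B L e
  · left
    obtain ⟨b, hb, heb⟩ : ∃ b, InOrb L e b ∧ B e b = 1 :=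
      ⟨(B e (g0 e))⁻¹ • g0 e, ((InOrb.refl e).map hg0).smul (inv_ne_zero hg0e),
        by rw [map_smul, smul_eq_mul, inv_mul_cancel₀ hg0e]⟩
    obtain ⟨φ, hφ⟩ := InOrb.comp hS hL hc hb
    obtain ⟨Q, hQ, hQe, hQb, hθQ, hφQ⟩ := exists_form hS hL hc hR (InOrb.refl e) hb hc hφ heb
    refine ⟨Q, hQ, fun g hg => isometry_of_rigid hS hL hc hR (InOrb.refl e) hb hc hφ heb hQ hQe hQb hθQ
      hφQ g hg, fun g hg hev => ?_⟩
    exact even_mem hS hdim hQ heb hQe hQb (fun w hw => hθQ w hw ▸ hc.mem hw)
      (fun w hw => hφQ w hw ▸ hφ.mem hw) hg hev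
  · right
    have hbig : ¬ Big F V := fun h => hR (rigid_of_big hS hL hdim h hc)
    have hq : ∀ c : F, c ≠ 0 → c = 1 := fun c hc0 => by_contra fun hc1 => hbig (Or.inl ⟨c, hc0, hc1⟩)
    exact ⟨hq, by by_contra h; exact hbig (Or.inr (by omega)), fun h => hT 1 one_ne_zero h,
      fun h4 => card_of_not_rigid hS hL h4 hq hc hR⟩

end CfsgLib.TransvComp
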