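import Cfsg.Agent.TransvComp.CaseOne

/-!
# The normal two-subgroups of a vector stabilizer consist of Siegel elements
-/

set_option autoImplicit false
set_option linter.unusedSectionVars false
set_option linter.unusedSimpArgs false
set_option linter.style.haveILetI false

namespace CfsgLib.TransvComp

open Module

variable {F V : Type*} [Field F] [CharP F 2] [Finite F] [AddCommGroup V] [Module F V]
  [FiniteDimensional F V] {B : LinearMap.BilinForm F V}

theorem pgroup_is_siegel (hS : Symp B) (hdim : 2 < finrank F V) {a b : V} (hab : B a b = 1)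
    (P : Subgroup (V ≃ₗ[F] V)) (hP : IsPGroup 2 P) (hPS : ∀ g ∈ P, g ∈ Sp B ∧ g a = a)
    (hnorm : ∀ h ∈ Sp B, h a = a → ∀ g ∈ P, h⁻¹ * g * h ∈ P) :
    ∀ g ∈ P, B a (g b + b) = 0 ∧ g = sx B a (g b + b) (B b (g b + b)) := by
  have hba : B b a = 1 := by rw [comm hS, hab]
  have ha0 : a ≠ 0 := fun h => by rw [h, map_zero, LinearMap.zero_apply] at hab; exact zero_ne_one hab
  let N : Submodule F V := Submodule.span F {a}
  have haN : a ∈ N := Submodule.subset_span rfl
  have hN : ∀ g ∈ P, N ≤ N.comap g.toLinearMap := fun g hg x hx => by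
    obtain ⟨t, rfl⟩ := Submodule.mem_span_singleton.1 hx
    show g (t • a) ∈ N
    rw [map_smul, (hPS g hg).2]
    exact Submodule.smul_mem _ _ haN
  let Wq : Submodule F (V ⧸ N) := (LinearMap.ker (B a)).map N.mkQ
  have hWq : ∀ g : P, ∀ z ∈ Wq, N.mapQ N (g.1 : V ≃ₗ[F] V).toLinearMap (hN g g.2) z ∈ Wq := by
    rintro g _ ⟨v, hv, rfl⟩
    refine ⟨g.1 v, ?_, rfl⟩
    show B a (g.1 v) = 0
    rw [← (hPS g g.2).2, (hPS g g.2).1]
    exact hv
  letI : MulAction P Wq :=
    { smul := fun g z => ⟨_, hWq g z.1 z.2⟩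
      one_smul := fun z => Subtype.ext (by
        obtain ⟨v, hv⟩ := N.mkQ_surjective z.1
        show N.mapQ N _ _ z.1 = z.1
        rw [← hv]; rfl)
      mul_smul := fun g h z => Subtype.ext (by
        obtain ⟨v, hv⟩ := N.mkQ_surjective z.1
        show N.mapQ N _ _ z.1 = N.mapQ N _ _ (N.mapQ N _ _ z.1)
        rw [← hv]; rfl) }
  haveI : Finite V := Module.finite_of_finite F
  haveI : Finite (V ⧸ N) := Finite.of_surjective _ N.mkQ_surjective
  have hne : Wq ≠ ⊥ := by
    obtain ⟨u, v, hau, hbu, -, -, huv⟩ := exists_plane hS hdim hab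
    intro h
    have hu : N.mkQ u ∈ Wq := ⟨u, hau, rfl⟩
    rw [h, Submodule.mem_bot, Submodule.mkQ_apply, Submodule.Quotient.mk_eq_zero] at hu
    obtain ⟨t, ht⟩ := Submodule.mem_span_singleton.1 hu
    rw [← ht, map_smul, smul_eq_mul, hba, mul_one] at hbu
    rw [← ht, hbu, zero_smul, map_zero, LinearMap.zero_apply] at huv
    exact zero_ne_one huv
  have hd : 2 ∣ Nat.card Wq := by
    haveI := Fintype.ofFinite F
    rw [Module.natCard_eq_pow_finrank (K := F)]
    refine dvd_pow ?_ ?_
    · rw [Nat.card_eq_fintype_card]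
      exact (CharP.cast_eq_zero_iff F 2 _).1 (Nat.cast_card_eq_zero F)
    · exact fun h => hne (Submodule.finrank_eq_zero.1 h)
  haveI : Fact (Nat.Prime 2) := ⟨Nat.prime_two⟩
  obtain ⟨z, hz, hz0⟩ := hP.exists_fixed_point_of_prime_dvd_card_of_fixed_point (α := Wq) hd (a := 0)
    (fun g => Subtype.ext (map_zero _))
  -- vectors moved only along `a`
  let W : Submodule F V :=
    { carrier := {v | B a v = 0 ∧ ∀ g ∈ P, g v + v ∈ N}
      zero_mem' := ⟨map_zero _, fun g _ => by simp⟩
      add_mem' := fun {x y} hx hy => ⟨by rw [map_add, hx.1, hy.1, add_zero], fun g hg => by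
        rw [map_add, add_add_add_comm]; exact N.add_mem (hx.2 g hg) (hy.2 g hg)⟩
      smul_mem' := fun t x hx => ⟨by rw [map_smul, hx.1, smul_zero], fun g hg => by
        rw [map_smul, ← smul_add]; exact N.smul_mem _ (hx.2 g hg)⟩ }
  obtain ⟨v, hv, hvz⟩ := z.2
  have hvW : v ∈ W := by
    refine ⟨hv, fun g hg => ?_⟩
    have h1 := congrArg Subtype.val (hz ⟨g, hg⟩)
    change N.mapQ N g.toLinearMap _ z.1 = z.1 at h1
    rw [← hvz, Submodule.mkQ_apply, Submodule.mapQ_apply, Submodule.Quotient.eq] at h1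
    change g v - v ∈ N at h1
    rwa [show g v + v = g v - v by
      rw [sub_eq_add_neg, neg_eq_of_add_eq_zero_left (vadd_self (F := F) v)]]
  have hvN : ∀ t : F, v ≠ t • a := fun t h => hz0 (Subtype.ext (by
    show (0 : V ⧸ N) = z.1
    rw [← hvz, Submodule.mkQ_apply, eq_comm, Submodule.Quotient.mk_eq_zero, h]
    exact N.smul_mem _ haN))
  have hmove : ∀ u, B a u = 0 → B v u ≠ 0 → u ∈ W := by
    intro u hu hvu
    have hua : B u a = 0 := by rw [comm hS, hu]
    have hta : sx B u 0 1 a = a := by simp [sx_apply hS (map_zero (B u)), hu]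
    have htv : sx B u 0 1 v ∈ W := by
      refine ⟨by rw [← hta, sx_mem hS (map_zero _), hv], fun g hg => ?_⟩
      have h1 := hvW.2 _ (hnorm _ (sx_mem hS (map_zero _) 1) hta g hg)
      obtain ⟨t, ht⟩ := Submodule.mem_span_singleton.1 h1
      refine Submodule.mem_span_singleton.2 ⟨t, ?_⟩
      have := congrArg (sx B u 0 1) ht
      rw [map_smul, hta, map_add, LinearEquiv.mul_apply, LinearEquiv.mul_apply, apply_inv_self] at this
      exact this
    have h2 := W.smul_mem (B v u)⁻¹ (W.add_mem htv hvW)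
    have e : sx B u 0 1 v + v = B v u • u := by
      rw [sx_apply hS (map_zero _)]
      match_scalars <;> simp [two_eq_zero', CharTwo.add_self_eq_zero]
    rwa [e, inv_smul_smul₀ hvu] at h2
  obtain ⟨u0, hu0a, hu0v⟩ := exists_two hS ha0 hvN 0 1
  have hau0 : B a u0 = 0 := by rw [comm hS, hu0a]
  have hvu0 : B v u0 = 1 := by rw [comm hS, hu0v]
  have hall : ∀ u, B a u = 0 → u ∈ W := by
    intro u hu
    by_cases hvu : B v u = 0
    · have h1 := hmove (u + u0) (by rw [map_add, hu, hau0, add_zero]) (by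
        rw [map_add, hvu, hvu0, zero_add]; exact one_ne_zero)
      have h2 := W.add_mem h1 (hmove u0 hau0 (by rw [hvu0]; exact one_ne_zero))
      rwa [add_assoc, vadd_self (F := F), add_zero] at h2
    · exact hmove u hu hvu
  intro g hg
  have hgB := (hPS g hg).1
  have hga := (hPS g hg).2
  have haw : B a (g b + b) = 0 := by
    rw [map_add]; nth_rw 1 [← hga]
    rw [hgB, CharTwo.add_self_eq_zero]
  refine ⟨haw, LinearEquiv.ext fun x => ?_⟩
  obtain ⟨y, hy⟩ : ∃ y, y = x + B x a • b := ⟨_, rfl⟩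
  have hay : B a y = 0 := by simp [hy, hab, comm hS a x, CharTwo.add_self_eq_zero]
  obtain ⟨t, ht⟩ := Submodule.mem_span_singleton.1 ((hall y hay).2 g hg)
  have hgy : g y = y + t • a := by rw [ht, add_comm (g y), ← add_assoc, vadd_self (F := F), zero_add]
  have htval : t = B y (g b + b) := by
    have h := hgB y b
    rw [hgy, map_add, map_smul, LinearMap.add_apply, LinearMap.smul_apply] at h
    have h2 : B a (g b) = 1 := by rw [← hga, hgB, hab]
    rw [h2, smul_eq_mul, mul_one] at h
    rw [map_add, ← h, ← add_assoc, CharTwo.add_self_eq_zero, zero_add]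
  have hx : x = y + B x a • b := by rw [hy, add_assoc, vadd_self (F := F), add_zero]
  conv_lhs => rw [hx, map_add, map_smul, hgy, htval]
  rw [sx_apply hS haw, hy]
  simp only [map_add, map_smul, LinearMap.add_apply, LinearMap.smul_apply, smul_eq_mul, hS.self]
  match_scalars <;> ring_nf <;> simp [two_eq_zero']

end CfsgLib.TransvComp
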