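import Mathlib

/-!
# Proper subgroups of index at most six of the symmetric group of degree six
-/

set_option autoImplicit false
set_option linter.style.haveILetI false

namespace CfsgLib.TransvComp

open Equiv

/-- A proper subgroup of `S₆` of order at least `120` is `A₆` or a copy of `S₅`. -/
theorem six_subgroup (L : Subgroup (Perm (Fin 6))) (hL : L ≠ ⊤) (h120 : 120 ≤ Nat.card L) :
    Nonempty (↥L ≃* ↥(alternatingGroup (Fin 6))) ∨ Nonempty (↥L ≃* Perm (Fin 5)) := by
  classical
  have h720 : Nat.card (Perm (Fin 6)) = 720 := by rw [Nat.card_perm, Nat.card_fin]; rfl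
  have hmul := L.index_mul_card
  rw [h720] at hmul
  have hne1 : L.index ≠ 1 := fun h => hL (Subgroup.index_eq_one.1 h)
  have hle : L.index ≤ 6 := by nlinarith
  by_cases hA : alternatingGroup (Fin 6) ≤ L
  · left
    have hA2 : (alternatingGroup (Fin 6)).index = 2 := alternatingGroup.index_eq_two
    have hdvd : L.index ∣ 2 := hA2 ▸ Subgroup.index_dvd_of_le hA
    rcases (Nat.dvd_prime Nat.prime_two).1 hdvd with h | h
    · exact absurd h hne1
    · exact ⟨MulEquiv.subgroupCongr (Equiv.Perm.eq_alternatingGroup_of_index_eq_two h)⟩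
  right
  haveI : IsSimpleGroup (alternatingGroup (Fin 6)) := alternatingGroup.isSimpleGroup (by simp)
  -- the core is trivial
  have hcore : L.normalCore = ⊥ := by
    rcases Subgroup.Normal.eq_bot_or_eq_top
        (Subgroup.normal_subgroupOf (N := L.normalCore) (H := alternatingGroup (Fin 6))) with h | h
    · refine (Subgroup.eq_bot_iff_forall _).2 fun z hz => Equiv.ext fun i => ?_
      have hcomm : ∀ c ∈ alternatingGroup (Fin 6), z * c = c * z := fun c hc =>
        Subgroup.commute_of_normal_of_disjoint L.normalCore (alternatingGroup (Fin 6))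
          (Subgroup.normalCore_normal L) inferInstance
          (disjoint_iff.2 (by rw [inf_comm]; exact (Subgroup.subgroupOf_eq_bot.1 h).symm.eq_bot))
          z c hz hc
      have key : ∀ j k : Fin 6, j ≠ i → k ≠ i → j ≠ k → z i = i ∨ z i = j ∨ z i = k := by
        intro j k hj hk hjk
        by_contra hcon
        push Not at hcon
        have hc : swap i j * swap i k ∈ alternatingGroup (Fin 6) := by
          rw [Equiv.Perm.mem_alternatingGroup, map_mul, Equiv.Perm.sign_swap hj.symm,
            Equiv.Perm.sign_swap hk.symm]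
          rfl
        have h1 := Equiv.congr_fun (hcomm _ hc) i
        simp only [Perm.mul_apply, swap_apply_left, swap_apply_of_ne_of_ne hk hjk.symm,
          swap_apply_of_ne_of_ne hcon.1 hcon.2.2, swap_apply_of_ne_of_ne hcon.1 hcon.2.1] at h1
        exact hk (z.injective h1)
      show z i = i
      have hex : ∀ i : Fin 6, ∃ j k l m : Fin 6, j ≠ i ∧ k ≠ i ∧ j ≠ k ∧ l ≠ i ∧ m ≠ i ∧ l ≠ m ∧
          j ≠ l ∧ j ≠ m ∧ k ≠ l ∧ k ≠ m := by decide
      obtain ⟨j, k, l, m, hj, hk, hjk, hl, hm, hlm, hjl, hjm, hkl, hkm⟩ := hex i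
      rcases key j k hj hk hjk with h | h | h
      · exact h
      · rcases key l m hl hm hlm with h' | h' | h'
        · exact h'
        · exact absurd (h.symm.trans h') hjl
        · exact absurd (h.symm.trans h') hjm
      · rcases key l m hl hm hlm with h' | h' | h'
        · exact h'
        · exact absurd (h.symm.trans h') hkl
        · exact absurd (h.symm.trans h') hkm
    · exact absurd ((Subgroup.subgroupOf_eq_top.1 h).trans (Subgroup.normalCore_le L)) hA
  -- the action on the cosets
  let φ := MulAction.toPermHom (Perm (Fin 6)) (Perm (Fin 6) ⧸ L)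
  have hφ : Function.Injective φ := by
    rw [← MonoidHom.ker_eq_bot_iff, ← Subgroup.normalCore_eq_ker, hcore]
  have hfact := Nat.card_le_card_of_injective _ hφ
  rw [h720, Nat.card_perm, show Nat.card (Perm (Fin 6) ⧸ L) = L.index from rfl] at hfact
  have hidx : L.index = 6 := by
    by_contra h
    have hlt : L.index ≤ 5 := by omega
    have := hfact.trans (Nat.factorial_le hlt)
    norm_num [Nat.factorial] at this
  have hLcard : Nat.card L = 120 := by rw [hidx] at hmul; omega
  -- restrict to the other five points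
  let x : Perm (Fin 6) ⧸ L := QuotientGroup.mk 1
  have hfix : ∀ g : L, φ g x = x := fun g => by
    show (g : Perm (Fin 6)) • (QuotientGroup.mk 1 : Perm (Fin 6) ⧸ L) = QuotientGroup.mk 1
    rw [MulAction.Quotient.smul_mk, QuotientGroup.eq]
    simp
  have hiff : ∀ (g : L) y, φ g y ≠ x ↔ y ≠ x := fun g y => by
    conv_lhs => rw [← hfix g]
    exact not_congr (φ g).injective.eq_iff
  let ψ : L →* Perm {y : Perm (Fin 6) ⧸ L // y ≠ x} :=
    { toFun := fun g => (φ g).subtypePerm (hiff g)
      map_one' := Equiv.ext fun y => Subtype.ext (by simp)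
      map_mul' := fun g h => Equiv.ext fun y => Subtype.ext (by
        show φ (g * h : L) y.1 = φ g (φ h y.1)
        rw [Subgroup.coe_mul, map_mul]; rfl) }
  have hψ : Function.Injective ψ := fun g h e => by
    apply Subtype.ext
    apply hφ
    refine Equiv.ext fun y => ?_
    rcases eq_or_ne y x with rfl | hy
    · rw [hfix, hfix]
    · exact congrArg Subtype.val (Equiv.congr_fun e ⟨y, hy⟩)
  have h5 : Nat.card {y : Perm (Fin 6) ⧸ L // y ≠ x} = 5 := by
    haveI := Fintype.ofFinite (Perm (Fin 6) ⧸ L)
    rw [Nat.card_eq_fintype_card, Fintype.card_subtype_compl, Fintype.card_subtype_eq,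
      ← Nat.card_eq_fintype_card, show Nat.card (Perm (Fin 6) ⧸ L) = L.index from rfl, hidx]
  obtain ⟨e⟩ : Nonempty ({y : Perm (Fin 6) ⧸ L // y ≠ x} ≃ Fin 5) := ⟨Finite.equivFinOfCardEq h5⟩
  refine ⟨(MulEquiv.ofBijective ψ ((Nat.bijective_iff_injective_and_card ψ).2 ⟨hψ, ?_⟩)).trans
    e.permCongrHom⟩
  rw [hLcard, Nat.card_perm, h5]
  rfl

end CfsgLib.TransvComp
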