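import Mathlib

/-!
# Siegel elements of a symplectic space in characteristic two

`sx B a w c` is `v ↦ v + B(v,a) w + B(v,w) a + c B(v,a) a` for `w` orthogonal to `a`.
-/

set_option autoImplicit false
set_option linter.unusedSectionVars false
set_option linter.style.haveILetI false
set_option linter.unusedSimpArgs false
set_option linter.unnecessarySeqFocus false

namespace CfsgLib.TransvComp

open Module

variable {F V : Type*} [Field F] [CharP F 2] [AddCommGroup V] [Module F V]

/-- A symplectic form. -/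
structure Symp (B : LinearMap.BilinForm F V) : Prop where
  self : ∀ v, B v v = 0
  sep : ∀ u, (∀ v, B u v = 0) → u = 0

variable {B : LinearMap.BilinForm F V}

include F in
theorem vadd_self (v : V) : v + v = 0 := by
  have h : ((1 : F) + 1) • v = 0 := by rw [CharTwo.add_self_eq_zero, zero_smul]
  rwa [add_smul, one_smul] at h

include F in
theorem veq_of_add {u v : V} (h : u + v = 0) : u = v :=
  add_right_cancel (h.trans (vadd_self (F := F) v).symm)

/-- Close identities that hold in characteristic two. -/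
theorem comm (hS : Symp B) (u v : V) : B u v = B v u := by
  have h := hS.self (u + v)
  rw [map_add, map_add, LinearMap.add_apply, LinearMap.add_apply, hS.self, hS.self, zero_add,
    add_zero] at h
  exact (CharTwo.add_eq_zero.1 h).symm

theorem exists_one (hS : Symp B) {a : V} (ha : a ≠ 0) : ∃ v, B v a = 1 := by
  have : ∃ v, B a v ≠ 0 := by
    by_contra h
    push Not at h
    exact ha (hS.sep a h)
  obtain ⟨v, hv⟩ := this
  exact ⟨(B a v)⁻¹ • v, by rw [map_smul, LinearMap.smul_apply, smul_eq_mul, comm hS v a, inv_mul_cancel₀ hv]⟩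

theorem eq_of_forall (hS : Symp B) {u v : V} (h : ∀ z, B z u = B z v) : u = v := by
  refine sub_eq_zero.1 (hS.sep _ fun z => ?_)
  rw [comm hS, map_sub, h z, sub_self]

theorem exists_perp_one (hS : Symp B) {a b : V} (ha : a ≠ 0) (hb : ∀ t : F, b ≠ t • a) :
    ∃ v, B v a = 0 ∧ B v b = 1 := by
  obtain ⟨v1, hv1⟩ := exists_one hS ha
  have : ∃ v, B v a = 0 ∧ B v b ≠ 0 := by
    by_contra h
    push Not at h
    refine hb (B v1 b) (eq_of_forall hS fun z => ?_)
    have h1 := h (z - B z a • v1) (by simp [hv1])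
    rw [map_sub, LinearMap.sub_apply, map_smul, LinearMap.smul_apply, smul_eq_mul, sub_eq_zero] at h1
    rw [h1, map_smul, smul_eq_mul, mul_comm]
  obtain ⟨v, hva, hvb⟩ := this
  exact ⟨(B v b)⁻¹ • v, by simp [hva], by simp [hvb]⟩

theorem ne_smul_symm {a b : V} (ha : a ≠ 0) (hb : ∀ t : F, b ≠ t • a) :
    b ≠ 0 ∧ ∀ t : F, a ≠ t • b := by
  have hb0 : b ≠ 0 := fun h => hb 0 (by rw [h, zero_smul])
  refine ⟨hb0, fun t h => ?_⟩
  by_cases ht : t = 0
  · exact ha (by rw [h, ht, zero_smul])
  · exact hb t⁻¹ (by rw [h, inv_smul_smul₀ ht])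

/-- Prescribing the products with two independent vectors. -/
theorem exists_two (hS : Symp B) {a b : V} (ha : a ≠ 0) (hb : ∀ t : F, b ≠ t • a) (α β : F) :
    ∃ v, B v a = α ∧ B v b = β := by
  obtain ⟨v, hva, hvb⟩ := exists_perp_one hS ha hb
  obtain ⟨u, hub, hua⟩ := exists_perp_one hS (ne_smul_symm ha hb).1 (ne_smul_symm ha hb).2
  exact ⟨α • u + β • v, by simp [hva, hua], by simp [hvb, hub]⟩

/-- Prescribing the products with three independent vectors, the first one zero. -/
theorem exists_three (hS : Symp B) {a b c : V} (ha : a ≠ 0) (hb : ∀ t : F, b ≠ t • a)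
    (hc : ∀ s t : F, c ≠ s • a + t • b) (β γ : F) :
    ∃ v, B v a = 0 ∧ B v b = β ∧ B v c = γ := by
  obtain ⟨z1, h1a, h1b⟩ := exists_two hS ha hb 1 0
  obtain ⟨z2, h2a, h2b⟩ := exists_two hS ha hb 0 1
  have : ∃ v, B v a = 0 ∧ B v b = 0 ∧ B v c ≠ 0 := by
    by_contra h
    push Not at h
    refine hc (B z1 c) (B z2 c) (eq_of_forall hS fun z => ?_)
    have h' := h (z - B z a • z1 - B z b • z2) (by simp [h1a, h2a]) (by simp [h1b, h2b])
    simp only [map_sub, LinearMap.sub_apply, map_smul, LinearMap.smul_apply, smul_eq_mul] at h'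
    simp only [map_add, map_smul, smul_eq_mul]
    linear_combination h'
  obtain ⟨z3, h3a, h3b, h3c⟩ := this
  refine ⟨β • z2 + ((γ - β * B z2 c) / B z3 c) • z3, by simp [h2a, h3a], by simp [h2b, h3b], ?_⟩
  simp [h3c]

theorem sq_surjective [Finite F] (x : F) : ∃ y : F, y * y = x := by
  haveI : Fact (Nat.Prime 2) := ⟨Nat.prime_two⟩
  exact ⟨(frobeniusEquiv F 2).symm x, by rw [← pow_two, frobeniusEquiv_symm_pow_p (R := F) 2]⟩

theorem two_eq_zero' : (2 : F) = 0 := CharTwo.two_eq_zero

theorem four_eq_zero' : (4 : F) = 0 := by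
  rw [show (4 : F) = 2 * 2 by norm_num, two_eq_zero', zero_mul]

theorem six_eq_zero' : (6 : F) = 0 := by
  rw [show (6 : F) = 2 * 3 by norm_num, two_eq_zero', zero_mul]

theorem three_eq_one' : (3 : F) = 1 := by
  rw [show (3 : F) = 2 + 1 by norm_num, two_eq_zero', zero_add]

theorem five_eq_one' : (5 : F) = 1 := by
  rw [show (5 : F) = 4 + 1 by norm_num, four_eq_zero', zero_add]

/-- The linear map underlying `sx`. -/
def sxMap (B : LinearMap.BilinForm F V) (a w : V) (c : F) : V →ₗ[F] V where
  toFun v := v + B v a • w + B v w • a + (c * B v a) • a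
  map_add' x y := by simp only [map_add, LinearMap.add_apply]; module
  map_smul' r x := by simp only [map_smul, LinearMap.smul_apply, smul_eq_mul, RingHom.id_apply]; module

theorem sxMap_invol {a w : V} (ha : B a a = 0) (hw : B w w = 0) (haw : B a w = 0) (hwa : B w a = 0)
    (c : F) : Function.Involutive (sxMap B a w c) := by
  intro v
  simp only [sxMap, LinearMap.coe_mk, AddHom.coe_mk, map_add, map_smul, LinearMap.add_apply,
    LinearMap.smul_apply, smul_eq_mul, ha, hw, haw, hwa, mul_zero, add_zero]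
  match_scalars <;> ring_nf <;> simp [two_eq_zero']

open Classical in
/-- The Siegel element with centre `a`, parameters `w ⊥ a` and `c`. -/
noncomputable def sx (B : LinearMap.BilinForm F V) (a w : V) (c : F) : V ≃ₗ[F] V :=
  if h : B a a = 0 ∧ B w w = 0 ∧ B a w = 0 ∧ B w a = 0 then
    LinearEquiv.ofInvolutive (sxMap B a w c) (sxMap_invol h.1 h.2.1 h.2.2.1 h.2.2.2 c)
  else 1

theorem sx_apply (hS : Symp B) {a w : V} (hw : B a w = 0) (c : F) (v : V) :
    sx B a w c v = v + B v a • w + B v w • a + (c * B v a) • a := by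
  rw [sx, dif_pos ⟨hS.self a, hS.self w, hw, by rwa [comm hS]⟩]
  rfl

theorem sx_mul (hS : Symp B) {a w w' : V} (hw : B a w = 0) (hw' : B a w' = 0) (c c' : F) :
    sx B a w c * sx B a w' c' = sx B a (w + w') (c + c' + B w w') := by
  have hsum : B a (w + w') = 0 := by rw [map_add, hw, hw', add_zero]
  ext v
  simp only [LinearEquiv.mul_apply, sx_apply hS hw, sx_apply hS hw', sx_apply hS hsum, map_add,
    map_smul, LinearMap.add_apply, LinearMap.smul_apply, smul_eq_mul, hS.self, comm hS w' a, hw', hw,
    comm hS w' w, mul_zero, add_zero]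
  match_scalars <;> ring_nf

theorem sx_zero (hS : Symp B) (a : V) : sx B a 0 0 = 1 := by
  ext v; simp [sx_apply hS (map_zero (B a))]

theorem sx_mul_self (hS : Symp B) {a w : V} (hw : B a w = 0) (c : F) :
    sx B a w c * sx B a w c = 1 := by
  rw [sx_mul hS hw hw, vadd_self (F := F), hS.self, CharTwo.add_self_eq_zero, add_zero, sx_zero hS]

theorem sx_self_apply (hS : Symp B) {a w : V} (hw : B a w = 0) (c : F) (v : V) :
    sx B a w c (sx B a w c v) = v :=
  LinearEquiv.congr_fun (sx_mul_self hS hw c) v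

theorem sx_add_centre (hS : Symp B) {a w : V} (hw : B a w = 0) (c t : F) :
    sx B a (w + t • a) c = sx B a w c := by
  ext v
  rw [sx_apply hS (by simp [hw, hS.self]), sx_apply hS hw]
  simp only [map_add, map_smul, smul_eq_mul]
  match_scalars <;> ring_nf <;> simp [two_eq_zero']

theorem sx_smul_centre (hS : Symp B) {a w : V} (hw : B a w = 0) (s c : F) :
    sx B (s • a) w c = sx B a (s • w) (s * s * c) := by
  ext v
  rw [sx_apply hS (by simp [hw]), sx_apply hS (by simp [hw])]
  simp only [map_smul, smul_eq_mul]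
  match_scalars <;> ring_nf

theorem sx_swap (hS : Symp B) {a w : V} (hw : B a w = 0) : sx B a w 0 = sx B w a 0 := by
  ext v
  rw [sx_apply hS hw, sx_apply hS (by rwa [comm hS])]
  match_scalars <;> ring_nf

/-- The isometries of `B`. -/
def Sp (B : LinearMap.BilinForm F V) : Subgroup (V ≃ₗ[F] V) where
  carrier := {g | ∀ u v, B (g u) (g v) = B u v}
  one_mem' := fun _ _ => rfl
  mul_mem' := fun {g h} hg hh u v => by
    simp only [LinearEquiv.mul_apply]
    rw [hg, hh]
  inv_mem' := fun {g} hg u v => by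
    show B (g.symm u) (g.symm v) = B u v
    conv_rhs => rw [← g.apply_symm_apply u, ← g.apply_symm_apply v, hg]

theorem inv_apply_self (g : V ≃ₗ[F] V) (v : V) : g⁻¹ (g v) = v := g.symm_apply_apply v

theorem apply_inv_self (g : V ≃ₗ[F] V) (v : V) : g (g⁻¹ v) = v := g.apply_symm_apply v

theorem sx_mem (hS : Symp B) {a w : V} (hw : B a w = 0) (c : F) : sx B a w c ∈ Sp B := by
  intro u v
  simp only [sx_apply hS hw, map_add, map_smul, LinearMap.add_apply, LinearMap.smul_apply,
    smul_eq_mul, hS.self, hw, comm hS w a, comm hS a v, comm hS w v]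
  ring_nf
  simp [two_eq_zero']

theorem sx_conj (hS : Symp B) {g : V ≃ₗ[F] V} (hg : g ∈ Sp B) {a w : V} (hw : B a w = 0) (c : F) :
    g * sx B a w c * g⁻¹ = sx B (g a) (g w) c := by
  ext v
  obtain ⟨u, rfl⟩ := g.surjective v
  simp only [LinearEquiv.mul_apply, inv_apply_self, sx_apply hS hw, sx_apply hS ((hg a w).trans hw),
    hg u a, hg u w, map_add, map_smul]

theorem sx_inj (hS : Symp B) {a w w' : V} (ha : a ≠ 0) (hw : B a w = 0) (hw' : B a w' = 0) {c c' : F}
    (h : sx B a w c = sx B a w' c') : ∃ t : F, w' = w + t • a := by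
  obtain ⟨v, hv⟩ := exists_one hS ha
  have := LinearEquiv.congr_fun h v
  rw [sx_apply hS hw, sx_apply hS hw', hv, one_smul, one_smul, mul_one, mul_one] at this
  refine ⟨B v w + c - (B v w' + c'), ?_⟩
  linear_combination (norm := module) -this

/-- The growing-fixed-space induction. -/
theorem mem_of_grow [FiniteDimensional F V] {M : Subgroup (V ≃ₗ[F] V)} (g : V ≃ₗ[F] V) (P : (V ≃ₗ[F] V) → Prop)
    (hg : P g) (step : ∀ h, P h → h ≠ 1 → ∃ t ∈ M, P (t * h) ∧ (∀ x, h x = x → t x = x) ∧
      ∃ v, h v ≠ v ∧ t (h v) = v) : g ∈ M := by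
  suffices ∀ (n : ℕ) (g : V ≃ₗ[F] V), P g →
      finrank F (LinearMap.range (g.toLinearMap - LinearMap.id)) ≤ n → g ∈ M from this _ g hg le_rfl
  intro n
  induction n with
  | zero =>
    intro g _ hn
    have : g = 1 := by
      ext x
      have hx : (g.toLinearMap - LinearMap.id : V →ₗ[F] V) x ∈
            LinearMap.range (g.toLinearMap - LinearMap.id : V →ₗ[F] V) :=
        ⟨x, rfl⟩
      rw [Submodule.finrank_eq_zero.1 (Nat.le_zero.1 hn)] at hx
      simpa [sub_eq_zero] using hx
    rw [this]; exact one_mem M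
  | succ n ih =>
    intro g hPg hn
    by_cases h1 : g = 1
    · rw [h1]; exact one_mem M
    obtain ⟨t, htM, hP, hfix, v, hv, htv⟩ := step g hPg h1
    have hlt : LinearMap.ker (g.toLinearMap - LinearMap.id) <
        LinearMap.ker ((t * g).toLinearMap - LinearMap.id) := by
      refine SetLike.lt_iff_le_and_exists.2 ⟨fun x hx => ?_, v, ?_, ?_⟩
      · simp only [LinearMap.mem_ker, LinearMap.sub_apply, LinearEquiv.coe_coe, LinearMap.id_coe,
          id_eq, sub_eq_zero] at hx ⊢
        show t (g x) = x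
        rw [hx, hfix x hx]
      · simp only [LinearMap.mem_ker, LinearMap.sub_apply, LinearEquiv.coe_coe, LinearMap.id_coe,
          id_eq, sub_eq_zero]
        exact htv
      · simpa [sub_eq_zero] using hv
    have h2 := Submodule.finrank_lt_finrank_of_lt hlt
    have e1 := (g.toLinearMap - LinearMap.id).finrank_range_add_finrank_ker
    have e2 := ((t * g).toLinearMap - LinearMap.id).finrank_range_add_finrank_ker
    have := mul_mem (inv_mem htM) (ih (t * g) hP (by omega))
    simpa using this

/-- The symplectic group is generated by transvections. -/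
theorem mem_of_transvections [FiniteDimensional F V] (hS : Symp B) {M : Subgroup (V ≃ₗ[F] V)}
    (hM : ∀ (a : V) (c : F), sx B a 0 c ∈ M) {g : V ≃ₗ[F] V} (hg : g ∈ Sp B) : g ∈ M := by
  refine mem_of_grow g (· ∈ Sp B) hg fun h hh h1 => ?_
  obtain ⟨v, hv⟩ : ∃ v, h v ≠ v := by
    by_contra hc
    push Not at hc
    exact h1 (LinearEquiv.ext hc)
  have hperp : ∀ x u, h x = x → B x (h u + u) = 0 := fun x u hx => by
    rw [map_add]; nth_rw 1 [← hx]; rw [hh, CharTwo.add_self_eq_zero]
  by_cases hb : ∃ u, B u (h u) ≠ 0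
  · obtain ⟨u, hu⟩ := hb
    refine ⟨sx B (h u + u) 0 (B u (h u))⁻¹, hM _ _, mul_mem (sx_mem hS (map_zero _) _) hh,
      fun x hx => ?_, u, fun e => hu (by rw [e, hS.self]), ?_⟩
    · simp [sx_apply hS (map_zero (B (h u + u))), hperp x u hx]
    · rw [sx_apply hS (map_zero _), map_add, hS.self, zero_add, comm hS (h u) u, smul_zero, add_zero,
        map_zero, zero_smul, add_zero, inv_mul_cancel₀ hu, one_smul, ← add_assoc, vadd_self (F := F), zero_add]
  · push Not at hb
    have hsym : ∀ x y, B x (h y) = B y (h x) := fun x y => by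
      have := hb (x + y)
      simp only [map_add, LinearMap.add_apply, hb, zero_add, add_zero] at this
      exact (CharTwo.add_eq_zero.1 this).symm
    set p := h v + v with hp
    have hp0 : p ≠ 0 := fun e => hv (veq_of_add (F := F) e)
    obtain ⟨w, hw⟩ := exists_one hS hp0
    set q := h w + w with hq
    have hpq : B p q = 0 := by
      simp only [hp, hq, map_add, LinearMap.add_apply, hh v w, hsym v w, comm hS (h v) w]
      ring_nf; simp [two_eq_zero']
    have hvq : B v q = 1 := by
      rw [← hw, hp, hq]; simp only [map_add]; rw [hsym v w, comm hS v w]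
    have hdec : sx B p q 0 = sx B (p + q) 0 1 * (sx B p 0 1 * sx B q 0 1) := by
      ext x
      simp only [LinearEquiv.mul_apply, sx_apply hS hpq, sx_apply hS (map_zero (B (p + q))),
        sx_apply hS (map_zero (B p)), sx_apply hS (map_zero (B q)), map_add, map_smul,
        LinearMap.add_apply, LinearMap.smul_apply, smul_eq_mul, hS.self, hpq, comm hS q p, map_zero]
      match_scalars <;> ring_nf <;> simp [two_eq_zero']
    refine ⟨sx B p q 0, by rw [hdec]; exact mul_mem (hM _ _) (mul_mem (hM _ _) (hM _ _)),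
      mul_mem (sx_mem hS hpq _) hh, fun x hx => ?_, v, hv, ?_⟩
    · rw [sx_apply hS hpq, show B x p = 0 from hperp x v hx, show B x q = 0 from hperp x w hx]
      simp
    · have e1 : B (h v) p = 0 := by rw [hp, map_add, hS.self, comm hS, hb, add_zero]
      have e2 : B (h v) q = 1 := by
        rw [← hvq, hq]; simp only [map_add]; rw [hh v w, comm hS (h v) w, hsym w v, add_comm]
      rw [sx_apply hS hpq, e1, e2, zero_smul, add_zero, one_smul, mul_zero, zero_smul, add_zero, hp,
        ← add_assoc, vadd_self (F := F), zero_add]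

end CfsgLib.TransvComp
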