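import Cfsg.Agent.TransvComp.Basic

/-!
# A transvection at the distinguished point gives all transvections
-/

set_option autoImplicit false
set_option linter.unusedSectionVars false
set_option linter.unusedSimpArgs false
set_option linter.unnecessarySeqFocus false

namespace CfsgLib.TransvComp

open Module

variable {F V : Type*} [Field F] [CharP F 2] [Finite F] [AddCommGroup V] [Module F V]
  [FiniteDimensional F V]

/-- `θ` is a quadratic refinement of `B` on the orthogonal of `a`, constant on cosets of `a`. -/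
structure Refines (B : LinearMap.BilinForm F V) (a : V) (θ : V → F) : Prop where
  add : ∀ w w', B a w = 0 → B a w' = 0 → θ (w + w') = θ w + θ w' + B w w'
  centre : ∀ (w : V) (t : F), B a w = 0 → θ (w + t • a) = θ w

variable {B : LinearMap.BilinForm F V}

theorem Refines.zero (_hS : Symp B) {a : V} {θ : V → F} (hθ : Refines B a θ) : θ 0 = 0 := by
  have := hθ.add 0 0 (map_zero _) (map_zero _)
  rw [add_zero, map_zero, add_zero, CharTwo.add_self_eq_zero] at this
  exact this

theorem exists_plane (hS : Symp B) (hdim : 2 < finrank F V) {a b : V} (hab : B a b = 1) :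
    ∃ u v, B a u = 0 ∧ B b u = 0 ∧ B a v = 0 ∧ B b v = 0 ∧ B u v = 1 := by
  have ha : a ≠ 0 := fun h => by rw [h, map_zero] at hab; exact zero_ne_one hab
  have hlt : Submodule.span F {a, b} ≠ ⊤ := by
    intro h
    have h2 : finrank F (Submodule.span F ({a, b} : Set V)) ≤ 2 := by
      classical
      refine le_trans (finrank_span_le_card _) ?_
      simpa using Finset.card_le_two (a := a) (b := b)
    rw [h, finrank_top] at h2
    omega
  obtain ⟨x, hx⟩ : ∃ x, x ∉ Submodule.span F ({a, b} : Set V) := by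
    by_contra h
    push Not at h
    exact hlt (Submodule.eq_top_iff'.2 h)
  have hxu : ∀ s t : F, x ≠ s • a + t • b := fun s t h => hx (by
    rw [h]; exact Submodule.mem_span_pair.2 ⟨s, t, rfl⟩)
  have hb : ∀ t : F, b ≠ t • a := fun t h => by
    rw [h, map_smul, hS.self, smul_zero] at hab; exact zero_ne_one hab
  obtain ⟨v, hva, hvb, hvx⟩ := exists_three hS ha hb hxu 0 1
  refine ⟨x + B x b • a + B x a • b, v, ?_, ?_, by rwa [comm hS], by rwa [comm hS], ?_⟩
  · simp [hab, hS.self, comm hS a x, CharTwo.add_self_eq_zero]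
  · simp [comm hS b a, hab, hS.self, comm hS b x, CharTwo.add_self_eq_zero]
  · simp [comm hS a v, comm hS b v, hva, hvb, comm hS x v, hvx]

/-- A refinement takes every value off `⟨a, b⟩`. -/
theorem Refines.surj (hS : Symp B) (hdim : 2 < finrank F V) {a b : V} (hab : B a b = 1) {θ : V → F}
    (hθ : Refines B a θ) (c : F) :
    ∃ x, B a x = 0 ∧ B b x = 0 ∧ θ x = c := by
  obtain ⟨u, v, hau, hbu, hav, hbv, huv⟩ := exists_plane hS hdim hab
  have hadd : ∀ s s' : F, θ ((s + s') • u) = θ (s • u) + θ (s' • u) := fun s s' => by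
    rw [add_smul, hθ.add _ _ (by simp [hau]) (by simp [hau])]; simp [hS.self]
  have hmem : ∀ s t : F, θ (s • u + t • v) = θ (s • u) + θ (t • v) + s * t := fun s t => by
    rw [hθ.add _ _ (by simp [hau]) (by simp [hav])]; simp [huv, mul_comm]
  by_contra hne
  push Not at hne
  -- for every `t` the map `s ↦ θ (s u) + t s` fails to be injective
  have key : ∀ t : F, ∃ s, s ≠ 0 ∧ θ (s • u) / s = t := by
    intro t
    by_contra ht
    push Not at ht
    let f : F →+ F :=
      { toFun := fun s => θ (s • u) + t * s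
        map_zero' := by simp [hθ.zero hS]
        map_add' := fun s s' => by rw [hadd]; ring }
    have hf : Function.Injective f := by
      refine (injective_iff_map_eq_zero f).2 fun s hs => ?_
      by_contra hs0
      refine ht s hs0 ?_
      rw [div_eq_iff hs0]
      exact CharTwo.add_eq_zero.1 hs
    obtain ⟨s, hs⟩ := (Finite.injective_iff_surjective.1 hf) (c + θ (t • v))
    refine hne (s • u + t • v) (by simp [hau, hav]) (by simp [hbu, hbv]) ?_
    change θ (s • u) + t * s = c + θ (t • v) at hs
    rw [hmem, add_right_comm, mul_comm s t, hs, add_assoc, CharTwo.add_self_eq_zero, add_zero]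
  choose g hg0 hg using key
  have hginj : Function.Injective g := fun x y h => by rw [← hg x, ← hg y, h]
  obtain ⟨t, ht⟩ := (Finite.injective_iff_surjective.1 hginj) 0
  exact hg0 t ht

variable (B) in
/-- The transvection with parameter `r` at `p` lies in `L`. -/
def Pm (L : Subgroup (V ≃ₗ[F] V)) (r : F) (p : V) : Prop := sx B p 0 r ∈ L

variable {L : Subgroup (V ≃ₗ[F] V)}

theorem Pm.map (hS : Symp B) (hL : L ≤ Sp B) {r : F} {p : V} (h : Pm B L r p) {g : V ≃ₗ[F] V}
    (hg : g ∈ L) : Pm B L r (g p) := by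
  have := L.mul_mem (L.mul_mem hg h) (L.inv_mem hg)
  rwa [sx_conj hS (hL hg) (map_zero _), map_zero] at this

theorem Pm.smul (hS : Symp B) {r : F} {p : V} (s : F) :
    Pm B L r (s • p) ↔ Pm B L (s * s * r) p := by
  rw [Pm, Pm, sx_smul_centre hS (map_zero _), smul_zero]

/-- Case I. -/
theorem all_transvections (hS : Symp B) (hL : L ≤ Sp B) (hdim : 2 < finrank F V) {e : V} {θ : V → F}
    (hθ : Refines B e θ) (hX : ∀ w, B e w = 0 → sx B e w (θ w) ∈ L)
    {k0 : F} (hk0 : k0 ≠ 0) (hTk : Pm B L k0 e)
    (hg : ∃ g ∈ L, B e (g e) ≠ 0) :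
    ∀ (a : V) (r : F), sx B a 0 r ∈ L := by
  -- a partner of `e` carrying a transvection
  obtain ⟨f, j, hef, hj, hfj⟩ : ∃ f j, B e f = 1 ∧ j ≠ 0 ∧ Pm B L j f := by
    obtain ⟨g, hgL, hg⟩ := hg
    set β := B e (g e) with hβ
    refine ⟨β⁻¹ • g e, β * β * k0, by rw [map_smul, smul_eq_mul, inv_mul_cancel₀ hg],
      mul_ne_zero (mul_ne_zero hg hg) hk0, (Pm.smul hS _).2 ?_⟩
    convert hTk.map hS hL hgL using 1
    field_simp
  have he : e ≠ 0 := fun h => by rw [h, map_zero] at hef; exact zero_ne_one hef
  have hfe : B f e = 1 := by rw [comm hS, hef]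
  -- Step 1
  have step1 : ∀ (b : V) (r k : F) (u : V), B e b = 1 → Pm B L r b → r ≠ 0 → Pm B L k e →
      B e u = 0 → B b u = 0 → u ≠ 0 → θ u = k + r⁻¹ → ∀ t : F, Pm B L r (u + t • e) := by
    intro b r k u heb hb hr hk heu hbu hu hθu t
    have h1 := ((hb.map hS hL (hX u heu)).map hS hL hk).map hS hL hb
    have hub : B u b = 0 := by rw [comm hS, hbu]
    have hbe : B b e = 1 := by rw [comm hS, heb]
    have e1 : sx B b 0 r (sx B e 0 k (sx B e u (θ u) b)) = u + (θ u + k) • e := by
      rw [sx_apply hS heu, sx_apply hS (map_zero _), sx_apply hS (map_zero _)]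
      simp only [map_add, map_smul, LinearMap.add_apply, LinearMap.smul_apply, smul_eq_mul, hS.self,
        hub, hbu, hbe, heb, comm hS u e, heu, map_zero, hθu]
      have h2 : r * r⁻¹ = 1 := mul_inv_cancel₀ hr
      match_scalars <;> ring_nf <;> simp [h2, two_eq_zero', CharTwo.add_self_eq_zero]
    rw [e1] at h1
    obtain ⟨w, hwe, hwu⟩ := exists_two hS he (b := u) (fun s h => by
      have := hbu; rw [h, map_smul, smul_eq_mul, hbe, mul_one] at this
      exact hu (by rw [h, this, zero_smul])) 0 (θ u + k + t)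
    have hew : B e w = 0 := by rw [comm hS, hwe]
    have h3 := h1.map hS hL (hX w hew)
    rw [sx_apply hS hew] at h3
    convert h3 using 1
    simp only [map_add, map_smul, LinearMap.add_apply, LinearMap.smul_apply, smul_eq_mul, hS.self,
      hew, comm hS u e, heu, comm hS u w, hwu]
    match_scalars <;> ring_nf <;> simp [two_eq_zero', four_eq_zero', six_eq_zero', three_eq_one', five_eq_one']
  have hT0 : Pm B L 0 e := by rw [Pm, sx_zero hS]; exact L.one_mem
  have hune : ∀ u : V, θ u ≠ 0 → u ≠ 0 := fun u h hu => h (by rw [hu, hθ.zero hS])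
  -- Step 2
  obtain ⟨u, heu, hfu, hθu⟩ := hθ.surj hS hdim hef j⁻¹
  have huf : B u f = 0 := by rw [comm hS, hfu]
  have hue : B u e = 0 := by rw [comm hS, heu]
  have hu : u ≠ 0 := hune u (by rw [hθu]; exact inv_ne_zero hj)
  have step2 : ∀ r : F, r ≠ 0 → ∃ κ : F, Pm B L r (f + κ • e) := by
    intro r hr
    -- a parameter `t` with `t² = r / j³`
    obtain ⟨t, ht⟩ := sq_surjective (r / (j * j * j))
    have hj3 : j * j * j ≠ 0 := mul_ne_zero (mul_ne_zero hj hj) hj
    have ht0 : t ≠ 0 := fun h => div_ne_zero hr hj3 (by rw [← ht, h, mul_zero])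
    have h1 := (step1 f j 0 u hef hfj hj hT0 heu hfu hu (by rw [hθu, zero_add]) t).map hS hL hfj
    have e1 : sx B f 0 j (u + t • e) = (j * t) • (f + (j * t)⁻¹ • u + j⁻¹ • e) := by
      rw [sx_apply hS (map_zero _)]
      simp only [map_add, map_smul, LinearMap.add_apply, LinearMap.smul_apply, smul_eq_mul, huf,
        hef, map_zero, smul_zero, zero_smul]
      match_scalars <;> field_simp <;> ring_nf
    rw [e1, Pm.smul hS] at h1
    have hjr : j * t * (j * t) * j = r := by
      rw [show j * t * (j * t) * j = t * t * (j * j * j) by ring, ht, div_mul_cancel₀ _ hj3]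
    rw [hjr] at h1
    have hew : B e ((j * t)⁻¹ • u) = 0 := by rw [map_smul, heu, smul_zero]
    refine ⟨j⁻¹ + θ ((j * t)⁻¹ • u), ?_⟩
    have h3 := h1.map hS hL (hX _ hew)
    rw [sx_apply hS hew] at h3
    convert h3 using 1
    simp only [map_add, map_smul, LinearMap.add_apply, LinearMap.smul_apply, smul_eq_mul, hS.self,
      comm hS f u, huf, hue, heu, hfe]
    match_scalars <;> ring_nf <;> simp [two_eq_zero', four_eq_zero', six_eq_zero', three_eq_one', five_eq_one']
  have step3 : ∀ (r k : F) (u : V), r ≠ 0 → Pm B L k e → B e u = 0 → B f u = 0 → u ≠ 0 →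
      θ u = k + r⁻¹ → ∀ t : F, Pm B L r (u + t • e) := by
    intro r k u hr hk heu hfu hu hθu
    obtain ⟨κ, hκ⟩ := step2 r hr
    exact step1 _ r k u (by simp [hef, hS.self]) hκ hr hk heu (by simp [hfu, heu]) hu hθu
  -- products of two transvections
  have hprod : ∀ (r : F) (u : V), B e u = 0 → (∀ t : F, Pm B L r (u + t • e)) →
      ∀ t : F, Pm B L (r * t * t + θ ((r * t) • u)) e := by
    intro r u heu h t
    have h0 := h 0
    rw [zero_smul, add_zero] at h0
    have hw : B e ((r * t) • u) = 0 := by rw [map_smul, heu, smul_zero]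
    have hd : sx B (u + t • e) 0 r * sx B u 0 r = sx B e ((r * t) • u) (r * t * t) := by
      ext v
      simp only [LinearEquiv.mul_apply, sx_apply hS (map_zero (B u)),
        sx_apply hS (map_zero (B (u + t • e))), sx_apply hS hw, map_add, map_smul,
        LinearMap.add_apply, LinearMap.smul_apply, smul_eq_mul, hS.self, heu, comm hS u e, map_zero]
      match_scalars <;> ring_nf <;> simp [two_eq_zero', four_eq_zero', six_eq_zero', three_eq_one', five_eq_one']
    have := L.mul_mem (L.mul_mem (h t) h0) (hX _ hw)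
    rw [hd, sx_mul hS hw hw, vadd_self (F := F), hS.self, add_zero] at this
    exact this
  have hTadd : ∀ k k' : F, Pm B L k e → Pm B L k' e → Pm B L (k + k') e := fun k k' h h' => by
    have := L.mul_mem h h'
    rwa [sx_mul hS (map_zero _) (map_zero _), add_zero, map_zero, add_zero] at this
  -- the full transvection group at `e`
  have hfull : ∀ k : F, Pm B L k e := by
    intro k
    by_cases hex : ∃ c : F, c ≠ 0 ∧ c ≠ k0
    · obtain ⟨c, hc0, hck⟩ := hex
      obtain ⟨u, heu, hfu, hθu⟩ := hθ.surj hS hdim hef c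
      have hu : u ≠ 0 := hune u (by rw [hθu]; exact hc0)
      have hc' : c + k0 ≠ 0 := fun h => hck (CharTwo.add_eq_zero.1 h)
      have h1 := hprod _ u heu (step3 c⁻¹ 0 u (inv_ne_zero hc0) hT0 heu hfu hu
        (by rw [hθu, inv_inv, zero_add]))
      have h2 := hprod _ u heu (step3 (c + k0)⁻¹ k0 u (inv_ne_zero hc') hTk heu hfu hu
        (by rw [hθu, inv_inv, add_comm c, ← add_assoc, CharTwo.add_self_eq_zero, zero_add]))
      obtain ⟨s, hs⟩ := sq_surjective (k / k0)
      have := hTadd _ _ (h1 (c * s)) (h2 ((c + k0) * s))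
      rw [inv_mul_cancel_left₀ hc0, inv_mul_cancel_left₀ hc'] at this
      convert this using 1
      rw [show s * (c * s) + θ (s • u) + (s * ((c + k0) * s) + θ (s • u)) = s * s * k0 by
        ring_nf; simp [two_eq_zero'], hs, div_mul_cancel₀ _ hk0]
    · push Not at hex
      rcases eq_or_ne k 0 with rfl | hk
      · exact hT0
      · rw [hex k hk]; exact hTk
  intro a r
  rcases eq_or_ne r 0 with rfl | hr
  · rw [sx_zero hS]; exact L.one_mem
  show Pm B L r a
  set β := B e a with hβ
  by_cases hb : β = 0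
  · -- `a ⊥ e`
    set u := a + B f a • e with hudef
    have hau : a = u + B f a • e := by rw [hudef, add_assoc, vadd_self (F := F), add_zero]
    have heu : B e u = 0 := by rw [hudef, map_add, map_smul, hS.self, smul_zero, add_zero, ← hβ, hb]
    have hfu : B f u = 0 := by
      rw [hudef, map_add, map_smul, hfe, smul_eq_mul, mul_one, CharTwo.add_self_eq_zero]
    rcases eq_or_ne u 0 with h0 | h0
    · rw [hau, h0, zero_add, Pm.smul hS]; exact hfull _
    · rw [hau]
      exact step3 r (θ u + r⁻¹) u hr (hfull _) heu hfu h0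
        (by rw [add_assoc, CharTwo.add_self_eq_zero, add_zero]) _
  · -- `a` not orthogonal to `e`
    obtain ⟨z, hz⟩ : ∃ z, z = β⁻¹ • a := ⟨_, rfl⟩
    have hez : B e z = 1 := by rw [hz, map_smul, smul_eq_mul, ← hβ, inv_mul_cancel₀ hb]
    rw [show a = β • z by rw [hz, smul_inv_smul₀ hb], Pm.smul hS]
    obtain ⟨κ, hκ⟩ := step2 _ (mul_ne_zero (mul_ne_zero hb hb) hr)
    set w := z + f + B f z • e with hw
    have hew : B e w = 0 := by simp [hw, hez, hef, hS.self, CharTwo.add_self_eq_zero]
    have h3 := (hκ.map hS hL (hfull (κ + θ w + B f z))).map hS hL (hX w hew)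
    rw [sx_apply hS (map_zero _), sx_apply hS hew] at h3
    convert h3 using 1
    simp only [hw, map_add, map_smul, LinearMap.add_apply, LinearMap.smul_apply, smul_eq_mul, hS.self,
      hef, hfe, hez, map_zero, comm hS z e]
    match_scalars <;> ring_nf <;> simp [two_eq_zero', four_eq_zero', six_eq_zero', three_eq_one', five_eq_one']

end CfsgLib.TransvComp
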