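import Cfsg.Agent.TransvComp.CaseOne

/-!
# No transvection at the distinguished point: the complements are rigid
-/

set_option autoImplicit false
set_option linter.unusedSectionVars false
set_option linter.unusedSimpArgs false
set_option linter.unnecessarySeqFocus false
set_option linter.unusedVariables false

namespace CfsgLib.TransvComp

open Module

variable {F V : Type*} [Field F] [CharP F 2] [Finite F] [AddCommGroup V] [Module F V]
  [FiniteDimensional F V]

variable (B : LinearMap.BilinForm F V)

/-- `L` meets the Siegel group at `a` exactly in the graph of `θ`. -/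
def Comp (L : Subgroup (V ≃ₗ[F] V)) (a : V) (θ : V → F) : Prop :=
  ∀ w, B a w = 0 → ∀ c, (sx B a w c ∈ L ↔ c = θ w)

variable {B} {L : Subgroup (V ≃ₗ[F] V)}

theorem Comp.mem {a : V} {θ : V → F} (h : Comp B L a θ) {w : V} (hw : B a w = 0) :
    sx B a w (θ w) ∈ L := (h w hw _).2 rfl

theorem Comp.refines (hS : Symp B) {a : V} {θ : V → F} (h : Comp B L a θ) : Refines B a θ where
  add w w' hw hw' := by
    have := L.mul_mem (h.mem hw) (h.mem hw')
    rw [sx_mul hS hw hw'] at this
    exact ((h (w + w') (by simp [hw, hw']) _).1 this).symm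
  centre w t hw := by
    have hw' : B a (w + t • a) = 0 := by simp [hw, hS.self]
    have := h.mem hw'
    rw [sx_add_centre hS hw] at this
    exact (h w hw _).1 this

theorem Comp.map (hS : Symp B) (hL : L ≤ Sp B) {a : V} {θ : V → F} (h : Comp B L a θ)
    {g : V ≃ₗ[F] V} (hg : g ∈ L) : Comp B L (g a) (fun z => θ (g⁻¹ z)) := by
  intro w hw c
  obtain ⟨u, rfl⟩ := g.surjective w
  rw [hL hg] at hw
  simp only [inv_apply_self]
  rw [← sx_conj hS (hL hg) hw, L.mul_mem_cancel_right (L.inv_mem hg), L.mul_mem_cancel_left hg]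
  exact h u hw c

theorem Comp.smul (hS : Symp B) {a : V} {θ : V → F} (h : Comp B L a θ) {s : F} (hs : s ≠ 0) :
    Comp B L (s • a) (fun w => (s * s)⁻¹ * θ (s • w)) := by
  intro w hw c
  have hw' : B a w = 0 := by
    rw [map_smul, LinearMap.smul_apply, smul_eq_mul, mul_eq_zero] at hw
    exact hw.resolve_left hs
  rw [sx_smul_centre hS hw', h _ (by simp [hw'])]
  show s * s * c = θ (s • w) ↔ c = (s * s)⁻¹ * θ (s • w)
  exact ⟨fun e => by rw [← e, inv_mul_cancel_left₀ (mul_ne_zero hs hs)],
    fun e => by rw [e, mul_inv_cancel_left₀ (mul_ne_zero hs hs)]⟩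

theorem Comp.unique {a : V} {θ ψ : V → F} (h : Comp B L a θ) (h' : Comp B L a ψ) {w : V}
    (hw : B a w = 0) : θ w = ψ w := (h' w hw _).1 (h.mem hw)

theorem Comp.invariant (hS : Symp B) (hL : L ≤ Sp B) {a : V} {θ : V → F} (h : Comp B L a θ)
    {g : V ≃ₗ[F] V} (hg : g ∈ L) (hga : g a = a) {w : V} (hw : B a w = 0) : θ (g w) = θ w := by
  have h' := h.map hS hL hg
  rw [hga] at h'
  have hgw : B a (g w) = 0 := by rw [← hga, hL hg, hw]
  rw [h.unique h' hgw, inv_apply_self]

variable (B L) in
/-- The scalar multiples of the `L`-orbit of `e`. -/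
def InOrb (e p : V) : Prop := ∃ g ∈ L, ∃ s : F, s ≠ 0 ∧ p = s • g e

theorem InOrb.refl (e : V) : InOrb L e e := ⟨1, L.one_mem, 1, one_ne_zero, (one_smul _ _).symm⟩

theorem InOrb.map {e p : V} (h : InOrb L e p) {g : V ≃ₗ[F] V} (hg : g ∈ L) : InOrb L e (g p) := by
  obtain ⟨g', hg', s, hs, rfl⟩ := h
  exact ⟨g * g', L.mul_mem hg hg', s, hs, by rw [map_smul]; rfl⟩

theorem InOrb.smul {e p : V} (h : InOrb L e p) {s : F} (hs : s ≠ 0) : InOrb L e (s • p) := by
  obtain ⟨g, hg, s', hs', rfl⟩ := h
  exact ⟨g, hg, s * s', mul_ne_zero hs hs', by rw [mul_smul]⟩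

theorem InOrb.comp (hS : Symp B) (hL : L ≤ Sp B) {e p : V} {θ : V → F} (hc : Comp B L e θ)
    (h : InOrb L e p) : ∃ ψ, Comp B L p ψ := by
  obtain ⟨g, hg, s, hs, rfl⟩ := h
  exact ⟨_, (hc.map hS hL hg).smul hS hs⟩

variable (F V) in
/-- Everything but `Sp₄(2)`. -/
def Big : Prop := (∃ c : F, c ≠ 0 ∧ c ≠ 1) ∨ 4 < finrank F V

/-- A second centre orthogonal to the first is singular. -/
theorem perp (hS : Symp B) (hL : L ≤ Sp B) (hbig : Big F V) {a c : V} {θ ψ : V → F}
    (hθ : Comp B L a θ) (hψ : Comp B L c ψ) (ha : a ≠ 0) (hac : B a c = 0)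
    (hind : ∀ t : F, c ≠ t • a) (s : F) : θ (s • c) = 0 := by
  have hca : B c a = 0 := by rw [comm hS, hac]
  rcases hbig with hq | hn
  · -- elements of the Siegel group at `c` with parameter in `F a`
    have hcs : ∀ x : F, B c (x • a) = 0 := fun x => by simp [hca]
    set k : F → F := fun x => ψ (x • a) with hk
    have hk0 : ∀ x, k x = 0 → θ (x • c) = 0 := by
      intro x hx
      have h1 := hψ.mem (hcs x)
      rw [show ψ (x • a) = 0 from hx, sx_swap hS (hcs x), sx_smul_centre hS hac, mul_zero] at h1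
      exact ((hθ _ (by simp [hac]) 0).1 h1).symm
    have hkne : ∀ x, k x ≠ 0 → ∀ y : F, θ (y • c) = y * y * (k x)⁻¹ := by
      intro x hx y
      obtain ⟨w, hwa, hwc⟩ := exists_two hS ha hind 0 (y * (k x)⁻¹)
      have haw : B a w = 0 := by rw [comm hS, hwa]
      have hga : sx B c (x • a) (ψ (x • a)) a = a := by simp [sx_apply hS (hcs x), hac, hS.self]
      have h2 := hθ.invariant hS hL (hψ.mem (hcs x)) hga haw
      have e1 : sx B c (x • a) (ψ (x • a)) w = (w + y • c) + (x * (y * (k x)⁻¹)) • a := by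
        rw [sx_apply hS (hcs x), hwc, map_smul, hwa, smul_zero, zero_smul, add_zero,
          show ψ (x • a) * (y * (k x)⁻¹) = y * (k x * (k x)⁻¹) by simp only [hk]; ring,
          mul_inv_cancel₀ hx, mul_one]
        module
      rw [e1, (hθ.refines hS).centre _ _ (by simp [haw, hac]),
        (hθ.refines hS).add _ _ haw (by simp [hac]), map_smul, hwc, smul_eq_mul] at h2
      linear_combination h2 - (y * y * (k x)⁻¹) * two_eq_zero' (F := F)
    by_cases hall : ∀ x, k x = 0
    · exact hk0 s (hall s)
    push Not at hall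
    obtain ⟨x0, hx0⟩ := hall
    have hx00 : x0 ≠ 0 := fun h => hx0 (by simp [hk, h, (hψ.refines hS).zero hS])
    obtain ⟨c0, hc0, hc1⟩ := hq
    have hadd : ∀ x y, k (x + y) = k x + k y := fun x y => by
      simp only [hk, add_smul]
      rw [(hψ.refines hS).add _ _ (hcs x) (hcs y)]
      simp [hS.self]
    -- `k` is injective because a zero forces `θ` to vanish on a non-zero vector
    have hinj : ∀ x, k x = 0 → x = 0 := by
      intro x hx
      have h := (hkne x0 hx0 x).symm.trans (hk0 x hx)
      simpa [hx0] using h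
    have hval : ∀ x, k x ≠ 0 → k x = k x0 := by
      intro x hx
      have h := (hkne x hx 1).symm.trans (hkne x0 hx0 1)
      simpa using h
    have hne : k (c0 * x0) ≠ 0 := fun h => mul_ne_zero hc0 hx00 (hinj _ h)
    have := hinj (c0 * x0 + x0) (by rw [hadd, hval _ hne, CharTwo.add_self_eq_zero])
    rw [CharTwo.add_eq_zero] at this
    exact absurd (mul_right_cancel₀ hx00 (this.trans (one_mul x0).symm)) hc1
  · -- a vector orthogonal to both, outside their span
    have hv : ∃ v, B v a = 0 ∧ B v c = 0 ∧ ∀ s t : F, v ≠ s • a + t • c := by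
      by_contra hcon
      push Not at hcon
      let P : V →ₗ[F] F × F := (B.flip a).prod (B.flip c)
      have h1 : finrank F (LinearMap.ker P) ≤ 2 := by
        have hle : LinearMap.ker P ≤ Submodule.span F {a, c} := by
          intro v hv
          simp only [P, LinearMap.mem_ker, LinearMap.prod_apply, Function.prod, Prod.mk_eq_zero,
            LinearMap.flip_apply] at hv
          obtain ⟨s, t, e⟩ := hcon v hv.1 hv.2
          rw [e]; exact Submodule.mem_span_pair.2 ⟨s, t, rfl⟩
        classical
        refine (Submodule.finrank_mono hle).trans (le_trans (finrank_span_le_card _) ?_)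
        simpa using Finset.card_le_two (a := a) (b := c)
      have h2 : finrank F (LinearMap.range P) ≤ 2 :=
        (Submodule.finrank_le _).trans (by simp)
      have h3 := P.finrank_range_add_finrank_ker
      omega
    obtain ⟨v, hva, hvc, hvind⟩ := hv
    have hcv : B c v = 0 := by rw [comm hS, hvc]
    obtain ⟨w, hwa, hwc, hwv⟩ := exists_three hS ha hind hvind 0 s
    have haw : B a w = 0 := by rw [comm hS, hwa]
    have hga : sx B c v (ψ v) a = a := by simp [sx_apply hS hcv, hac, comm hS a v, hva]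
    have h2 := hθ.invariant hS hL (hψ.mem hcv) hga haw
    have e1 : sx B c v (ψ v) w = w + s • c := by
      rw [sx_apply hS hcv, hwc, hwv, zero_smul, mul_zero, zero_smul, add_zero, add_zero]
    rw [e1, (hθ.refines hS).add _ _ haw (by simp [hac]), map_smul, hwc, smul_zero, add_zero] at h2
    simpa using h2

variable (B L) in
/-- Every point of the orbit not orthogonal to `a` is a translate of a given such point `b`. -/
def Rigid (e : V) : Prop := ∀ a b p θ, InOrb L e a → InOrb L e b → InOrb L e p → Comp B L a θ →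
  B a b = 1 → B a p = 1 → sx B a (p + b + B p b • a) (θ (p + b + B p b • a)) b = p

theorem orb_zero_line (hS : Symp B) (hL : L ≤ Sp B) (hbig : Big F V) {e : V} {θ0 : V → F}
    (hc : Comp B L e θ0) {a b u : V} {θ φ : V → F} (ha : InOrb L e a) (hθ : Comp B L a θ)
    (hφ : Comp B L b φ) (hab : B a b = 1) (hau : B a u = 0) (hbu : B b u = 0) (hu : φ u = 0)
    (s : F) : θ (s • u) = 0 := by
  rcases eq_or_ne u 0 with rfl | hu0
  · rw [smul_zero, (hθ.refines hS).zero hS]
  have hca : sx B b u (φ u) a = a + u := by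
    rw [sx_apply hS hbu, hu, hab, hau]
    simp
  have hO := ha.map (hφ.mem hbu)
  rw [hca] at hO
  obtain ⟨ψ, hψ⟩ := InOrb.comp hS hL hc hO
  have ha0 : a ≠ 0 := fun h => by rw [h, map_zero] at hab; exact zero_ne_one hab
  have h := perp hS hL hbig hθ hψ ha0 (by simp [hau, hS.self]) (fun t h => by
    have hu' : u = (t - 1) • a := by rw [sub_smul, one_smul, ← h, add_sub_cancel_left]
    have := hbu
    rw [hu', map_smul, smul_eq_mul, comm hS b a, hab, mul_one] at this
    exact hu0 (by rw [hu', this, zero_smul])) s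
  rw [smul_add, add_comm, (hθ.refines hS).centre _ _ (by simp [hau])] at h
  exact h

/-- Outside `Sp₄(2)` the orbit is rigid. -/
theorem rigid_of_big (hS : Symp B) (hL : L ≤ Sp B) (hdim : 2 < finrank F V) (hbig : Big F V) {e : V}
    {θ0 : V → F} (hc : Comp B L e θ0) : Rigid B L e := by
  intro a b p θ ha hb hp hθ hab hap
  have hba : B b a = 1 := by rw [comm hS, hab]
  set w := p + b + B p b • a with hw
  have haw : B a w = 0 := by simp [hw, hap, hab, hS.self, CharTwo.add_self_eq_zero]
  have hbw : B b w = 0 := by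
    simp [hw, hS.self, hba, comm hS b p, CharTwo.add_self_eq_zero]
  have hxb : sx B a w (θ w) b = b + w + θ w • a := by simp [sx_apply hS haw, hba, hbw]
  set κ := B p b + θ w with hκ
  have hxp : sx B a w (θ w) p = b + κ • a := by
    rw [sx_apply hS haw]
    simp only [hκ, hw, map_add, map_smul, LinearMap.add_apply, LinearMap.smul_apply, smul_eq_mul,
      hS.self, comm hS p a, hap]
    match_scalars <;> ring_nf <;>
      simp [two_eq_zero', four_eq_zero', six_eq_zero', three_eq_one', five_eq_one']
  by_cases hκ0 : κ = 0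
  · have := congrArg (sx B a w (θ w)) hxp
    rw [sx_self_apply hS haw, hκ0, zero_smul, add_zero] at this
    exact this.symm
  exfalso
  obtain ⟨φ, hφ⟩ := InOrb.comp hS hL hc hb
  obtain ⟨u, hbu, hau, hu⟩ := (hφ.refines hS).surj hS hdim hba κ⁻¹
  have hO := (hp.map (hθ.mem haw)).map (hφ.mem hbu)
  rw [hxp] at hO
  have e1 : sx B b u (φ u) (b + κ • a) = κ • (a + u) := by
    rw [sx_apply hS hbu]
    simp only [map_add, map_smul, LinearMap.add_apply, LinearMap.smul_apply, smul_eq_mul, hS.self,
      hab, hau, hbu, hu]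
    match_scalars <;> field_simp <;> ring_nf <;> simp [two_eq_zero', CharTwo.add_self_eq_zero]
  rw [e1] at hO
  obtain ⟨ψ, hψ⟩ := InOrb.comp hS hL hc (hO.smul (inv_ne_zero hκ0))
  rw [inv_smul_smul₀ hκ0] at hψ
  have hu0 : u ≠ 0 := fun h => by
    rw [h, (hφ.refines hS).zero hS] at hu; exact inv_ne_zero hκ0 hu.symm
  have ha0 : a ≠ 0 := fun h => by rw [h, map_zero] at hab; exact zero_ne_one hab
  have hperp : ∀ s, θ (s • u) = 0 := fun s => by
    have h := perp hS hL hbig hθ hψ ha0 (by simp [hau, hS.self]) (fun t h => by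
      have hu' : u = (t - 1) • a := by rw [sub_smul, one_smul, ← h, add_sub_cancel_left]
      have := hbu
      rw [hu', map_smul, smul_eq_mul, hba, mul_one] at this
      exact hu0 (by rw [hu', this, zero_smul])) s
    rw [smul_add, add_comm, (hθ.refines hS).centre _ _ (by simp [hau])] at h
    exact h
  have h1 := orb_zero_line hS hL hbig hc hb hφ hθ hba hbu hau (by simpa using hperp 1) 1
  rw [one_smul, hu] at h1
  exact inv_ne_zero hκ0 h1

end CfsgLib.TransvComp
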