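import Cfsg.Agent.Dickson.Basic

/-!
# The Dickson invariant is additive in every dimension at least three

One embeds the space in its sum with a hyperbolic plane.
-/

set_option autoImplicit false
set_option linter.unusedSectionVars false

namespace CfsgLib.TransvComp

open Module QuadraticMap CfsgLib.Dickson

variable {F V : Type*} [Field F] [CharP F 2] [Finite F] [AddCommGroup V] [Module F V]
  [FiniteDimensional F V]

/-- The hyperbolic plane. -/
noncomputable def plane : QuadraticForm F (F × F) :=
  QuadraticMap.linMulLin (LinearMap.fst F F F) (LinearMap.snd F F F)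

theorem plane_polar (x y : F × F) : polar (plane (F := F)) x y = x.1 * y.2 + x.2 * y.1 := by
  simp [plane, polar]; ring

variable (Q : QuadraticForm F V)

/-- An isometry extended by the identity on a hyperbolic plane. -/
noncomputable def extend (g : orth Q) : orth (Q.prod (plane (F := F))) :=
  ⟨(g : V ≃ₗ[F] V).prodCongr (LinearEquiv.refl F (F × F)), fun v => by
    simp [QuadraticMap.prod_apply, g.2 v.1]⟩

theorem extend_mul (g h : orth Q) : extend Q (g * h) = extend Q g * extend Q h := by
  apply Subtype.ext
  ext v <;> rfl

theorem parity_extend (g : orth Q) : parity (extend Q g) = parity g := by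
  have hr : LinearMap.range (disp (extend Q g)) =
      (LinearMap.range (disp g)).map (LinearMap.inl F V (F × F)) := by
    have hd : ∀ v, disp (extend Q g) v = (disp g v.1, 0) := fun v => by
      rw [disp_apply, disp_apply]
      exact Prod.ext rfl (Dickson.add_self (F := F) _)
    ext x
    constructor
    · rintro ⟨v, rfl⟩
      exact ⟨_, ⟨v.1, rfl⟩, (hd v).symm⟩
    · rintro ⟨_, ⟨v, rfl⟩, rfl⟩
      exact ⟨(v, 0), hd _⟩
  simp only [parity]
  rw [hr, ← LinearEquiv.finrank_eq (Submodule.equivMapOfInjective _ LinearMap.inl_injective _)]

/-- The parity of `rank (g + 1)` is additive. -/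
theorem parity_mul_any (hQ : (polarBilin Q).Nondegenerate) (hdim : 3 ≤ finrank F V) (g h : orth Q) :
    parity (g * h) = parity g + parity h := by
  rw [← parity_extend, ← parity_extend Q g, ← parity_extend Q h, extend_mul]
  refine parity_mul ?_ (by simp [Module.finrank_prod]; omega) _ _
  refine ⟨fun x hx => ?_, fun y hy => ?_⟩
  · have e1 := fun v : V => hx (v, 0)
    have e2 := hx (0, (1, 0))
    have e3 := hx (0, (0, 1))
    simp only [QuadraticMap.polarBilin_apply_apply, QuadraticMap.polar_prod, plane_polar] at e1 e2 e3
    simp at e1 e2 e3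
    refine Prod.ext (hQ.1 _ fun v => by simpa using e1 v) (Prod.ext e3 e2)
  · have e1 := fun v : V => hy (v, 0)
    have e2 := hy (0, (1, 0))
    have e3 := hy (0, (0, 1))
    simp only [QuadraticMap.polarBilin_apply_apply, QuadraticMap.polar_prod, plane_polar] at e1 e2 e3
    simp at e1 e2 e3
    refine Prod.ext (hQ.2 _ fun v => by simpa using e1 v) (Prod.ext e3 e2)

end CfsgLib.TransvComp
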