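import Cfsg.Agent.TransvComp.Quad
import Cfsg.Agent.TransvComp.Parity

/-!
# Two opposite Siegel groups generate the even isometries
-/

set_option autoImplicit false
set_option linter.unusedSectionVars false
set_option linter.unusedSimpArgs false
set_option linter.unnecessarySeqFocus false
set_option linter.unusedVariables false

namespace CfsgLib.TransvComp

open Module

variable {F V : Type*} [Field F] [CharP F 2] [Finite F] [AddCommGroup V] [Module F V]
  [FiniteDimensional F V] {B : LinearMap.BilinForm F V}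

theorem eight_eq_zero' : (8 : F) = 0 := by
  rw [show (8 : F) = 2 * 4 by norm_num, two_eq_zero', zero_mul]

theorem ten_eq_zero' : (10 : F) = 0 := by
  rw [show (10 : F) = 2 * 5 by norm_num, two_eq_zero', zero_mul]

/-- `rank (g + 1)`. -/
noncomputable def rk2 (g : V ≃ₗ[F] V) : ℕ := finrank F (LinearMap.range (g.toLinearMap + LinearMap.id))

theorem rk2_parity {Q : QuadraticForm F V} (g : Dickson.orth Q) :
    Dickson.parity g = 0 ↔ Even (rk2 (g : V ≃ₗ[F] V)) := by
  rw [← ZMod.natCast_eq_zero_iff_even]; rfl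

theorem rk2_transvection (hS : Symp B) {d : V} (hd : d ≠ 0) {k : F} (hk : k ≠ 0) :
    rk2 (sx B d 0 k) = 1 := by
  have hr : LinearMap.range ((sx B d 0 k).toLinearMap + LinearMap.id) = Submodule.span F {d} := by
    have h1 : ∀ v, ((sx B d 0 k).toLinearMap + LinearMap.id : V →ₗ[F] V) v = (k * B v d) • d := fun v => by
      show sx B d 0 k v + v = _
      rw [sx_apply hS (map_zero _), smul_zero, map_zero, zero_smul, add_zero, add_zero, add_right_comm,
        vadd_self (F := F), zero_add]
    ext x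
    constructor
    · rintro ⟨v, rfl⟩; rw [h1]; exact Submodule.smul_mem _ _ (Submodule.subset_span rfl)
    · intro hx
      obtain ⟨s, rfl⟩ := Submodule.mem_span_singleton.1 hx
      obtain ⟨v, hv⟩ := exists_one hS hd
      exact ⟨(s * k⁻¹) • v, by rw [h1]; simp [hv]; field_simp⟩
  rw [rk2, hr, finrank_span_singleton hd]

theorem rk2_siegel (hS : Symp B) {p q : V} (hp : p ≠ 0) (hq : ∀ t : F, q ≠ t • p) (hpq : B p q = 0)
    (c : F) : rk2 (sx B p q c) = 2 := by
  have h1 : ∀ v, ((sx B p q c).toLinearMap + LinearMap.id : V →ₗ[F] V) v =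
      B v p • q + (B v q + c * B v p) • p := fun v => by
    show sx B p q c v + v = _
    rw [sx_apply hS hpq]
    match_scalars <;> ring_nf <;> simp [two_eq_zero']
  have hr : LinearMap.range ((sx B p q c).toLinearMap + LinearMap.id) = Submodule.span F {q, p} := by
    ext x
    constructor
    · rintro ⟨v, rfl⟩; rw [h1]; exact Submodule.mem_span_pair.2 ⟨_, _, rfl⟩
    · intro hx
      obtain ⟨s, t, rfl⟩ := Submodule.mem_span_pair.1 hx
      obtain ⟨v, hvp, hvq⟩ := exists_two hS hp hq s (t + c * s)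
      exact ⟨v, by rw [h1, hvp, hvq, add_assoc, CharTwo.add_self_eq_zero, add_zero]⟩
  rw [rk2, hr]
  have hli : LinearIndependent F ![q, p] := by
    refine linearIndependent_fin2.2 ⟨by simpa using hp, fun t => ?_⟩
    simpa using fun h : t • p = q => hq t h.symm
  have := finrank_span_eq_card hli
  have e : Set.range ![q, p] = {q, p} := by ext x; simp [eq_comm, or_comm]
  rwa [e, Fintype.card_fin] at this

theorem even_siegel (hS : Symp B) {p q : V} (hp : p ≠ 0) (hpq : B p q = 0) {Q : QuadraticForm F V}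
    (hQ : Polar B Q) (hQp : Q p = 0) : Even (rk2 (sx B p q (Q q))) := by
  by_cases hq : ∃ t : F, q = t • p
  · obtain ⟨t, rfl⟩ := hq
    rw [Polar.smul, hQp, mul_zero, ← zero_add (t • p), sx_add_centre hS (map_zero _), sx_zero hS, rk2]
    have : ((1 : V ≃ₗ[F] V).toLinearMap + LinearMap.id : V →ₗ[F] V) = 0 :=
      LinearMap.ext fun v => vadd_self (F := F) v
    rw [this, LinearMap.range_zero, finrank_bot]
    exact Even.zero
  · push Not at hq
    rw [rk2_siegel hS hp hq hpq]
    exact even_two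

/-- The even isometries lie in a group containing the two Siegel groups. -/
theorem even_mem (hS : Symp B) (hdim : 2 < finrank F V) {Q : QuadraticForm F V} (hQ : Polar B Q)
    {a b : V} (hab : B a b = 1) (hQa : Q a = 0) (hQb : Q b = 0) {L : Subgroup (V ≃ₗ[F] V)}
    (hLa : ∀ w, B a w = 0 → sx B a w (Q w) ∈ L) (hLb : ∀ w, B b w = 0 → sx B b w (Q w) ∈ L)
    {g : V ≃ₗ[F] V} (hg : g ∈ Dickson.orth Q) (hev : Even (rk2 g)) : g ∈ L := by
  have hba : B b a = 1 := by rw [comm hS, hab]
  have ha0 : a ≠ 0 := fun h => by rw [h, map_zero, LinearMap.zero_apply] at hab; exact zero_ne_one hab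
  have hb0 : b ≠ 0 := fun h => by rw [h, map_zero] at hab; exact zero_ne_one hab
  have hpol : ∀ x y, QuadraticMap.polar Q x y = B x y := fun x y => by
    rw [QuadraticMap.polar, hQ.eq]; ring
  have hndg : (QuadraticMap.polarBilin Q).Nondegenerate := by
    refine ⟨fun x hx => hS.sep x fun y => ?_, fun x hx => hS.sep x fun y => ?_⟩
    · rw [← hpol]; exact hx y
    · rw [comm hS, ← hpol]; exact hx y
  have hmul := parity_mul_any Q hndg hdim
  -- the group generated by the two Siegel groups
  obtain ⟨E, hEdef⟩ : ∃ E, E = Subgroup.closure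
      ({x : V ≃ₗ[F] V | ∃ w, B a w = 0 ∧ x = sx B a w (Q w)} ∪
        {x | ∃ w, B b w = 0 ∧ x = sx B b w (Q w)}) := ⟨_, rfl⟩
  have hEa : ∀ w, B a w = 0 → sx B a w (Q w) ∈ E := fun w hw => by
    rw [hEdef]; exact Subgroup.subset_closure (Or.inl ⟨w, hw, rfl⟩)
  have hEb : ∀ w, B b w = 0 → sx B b w (Q w) ∈ E := fun w hw => by
    rw [hEdef]; exact Subgroup.subset_closure (Or.inr ⟨w, hw, rfl⟩)
  have hEL : E ≤ L := by
    rw [hEdef, Subgroup.closure_le]
    rintro x (⟨w, hw, rfl⟩ | ⟨w, hw, rfl⟩)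
    exacts [hLa w hw, hLb w hw]
  have hgens : ∀ x, (∃ w, B a w = 0 ∧ x = sx B a w (Q w)) ∨ (∃ w, B b w = 0 ∧ x = sx B b w (Q w)) →
      x ∈ Dickson.orth Q ∧ Even (rk2 x) := by
    rintro x (⟨w, hw, rfl⟩ | ⟨w, hw, rfl⟩)
    · exact ⟨fun v => sx_isometry hS hQ hQa hw v, even_siegel hS ha0 hw hQ hQa⟩
    · exact ⟨fun v => sx_isometry hS hQ hQb hw v, even_siegel hS hb0 hw hQ hQb⟩
  have hEev : ∀ x ∈ E, ∃ h : x ∈ Dickson.orth Q, Dickson.parity ⟨x, h⟩ = 0 := by
    intro x hx
    rw [hEdef] at hx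
    induction hx using Subgroup.closure_induction with
    | mem x hx => exact ⟨(hgens x hx).1, (rk2_parity _).2 (hgens x hx).2⟩
    | one => exact ⟨one_mem _, Dickson.parity_one⟩
    | mul x y _ _ hx hy =>
      obtain ⟨hx, px⟩ := hx
      obtain ⟨hy, py⟩ := hy
      exact ⟨mul_mem hx hy, (hmul ⟨x, hx⟩ ⟨y, hy⟩).trans (by rw [px, py, add_zero])⟩
    | inv x _ hx =>
      obtain ⟨hx, px⟩ := hx
      refine ⟨inv_mem hx, ?_⟩
      have := hmul ⟨x, hx⟩ ⟨x⁻¹, inv_mem hx⟩
      rw [show (⟨x, hx⟩ * ⟨x⁻¹, inv_mem hx⟩ : Dickson.orth Q) = 1 from Subtype.ext (mul_inv_cancel x),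
        Dickson.parity_one, px, zero_add] at this
      exact this.symm
  -- the transvection exchanging `a` and `b`
  have hQab : Q (a + b) = 1 := by rw [hQ.eq, hQa, hQb, hab, zero_add, zero_add]
  obtain ⟨τ, hτ⟩ : ∃ τ, τ = sx B (a + b) 0 1 := ⟨_, rfl⟩
  have hτv : ∀ v, τ v = v + B v (a + b) • (a + b) := fun v => by
    rw [hτ, sx_apply hS (map_zero _)]; simp
  have hτa : τ a = b := by
    rw [hτv]; simp [hS.self, hab]
    rw [← add_assoc, vadd_self (F := F), zero_add]
  have hτb : τ b = a := by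
    rw [hτv]; simp [hS.self, hba]
    rw [add_comm a b, ← add_assoc, vadd_self (F := F), zero_add]
  have hτQ : ∀ v, Q (τ v) = Q v := fun v => by
    rw [hτv, hQ.eq, Polar.smul, hQab, map_smul, smul_eq_mul, mul_one, add_assoc,
      CharTwo.add_self_eq_zero, add_zero]
  have hτS : τ ∈ Sp B := by rw [hτ]; exact sx_mem hS (map_zero _) _
  have hτ2 : τ * τ = 1 := by rw [hτ]; exact sx_mul_self hS (map_zero _) _
  have hτi : τ⁻¹ = τ := inv_eq_of_mul_eq_one_right hτ2
  have hτE : ∀ x ∈ E, τ * x * τ ∈ E := by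
    intro x hx
    rw [hEdef] at hx
    induction hx using Subgroup.closure_induction with
    | mem x hx =>
      nth_rw 2 [← hτi]
      rcases hx with ⟨w, hw, rfl⟩ | ⟨w, hw, rfl⟩
      · rw [sx_conj hS hτS hw, hτa, ← hτQ w]
        exact hEb _ (by rw [← hτa, hτS, hw])
      · rw [sx_conj hS hτS hw, hτb, ← hτQ w]
        exact hEa _ (by rw [← hτb, hτS, hw])
    | one => rw [mul_one, hτ2]; exact one_mem _
    | mul x y _ _ hx hy =>
      rw [show τ * (x * y) * τ = (τ * x * τ) * (τ * y * τ) by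
        simp only [mul_assoc]; rw [← mul_assoc τ τ, hτ2, one_mul]]
      exact mul_mem hx hy
    | inv x _ hx =>
      rw [show τ * x⁻¹ * τ = (τ * x * τ)⁻¹ by rw [mul_inv_rev, mul_inv_rev, hτi, mul_assoc]]
      exact inv_mem hx
  let M : Subgroup (V ≃ₗ[F] V) :=
    { carrier := {x | x ∈ E ∨ τ * x ∈ E}
      one_mem' := Or.inl (one_mem _)
      mul_mem' := fun {x y} hx hy => by
        rcases hx with hx | hx <;> rcases hy with hy | hy
        · exact Or.inl (mul_mem hx hy)
        · right
          have := mul_mem (hτE x hx) hy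
          simpa [mul_assoc, ← mul_assoc τ τ, hτ2] using this
        · right; rw [← mul_assoc]; exact mul_mem hx hy
        · left
          have := mul_mem (hτE _ hx) hy
          simpa [mul_assoc, ← mul_assoc τ τ, hτ2] using this
      inv_mem' := fun {x} hx => by
        rcases hx with hx | hx
        · exact Or.inl (inv_mem hx)
        · right
          have := hτE _ (inv_mem hx)
          simpa [mul_assoc, hτi, hτ2] using this }
  have hτM : τ ∈ M := Or.inr (by rw [hτ2]; exact one_mem _)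
  have hMa : ∀ w, B a w = 0 → sx B a w (Q w) ∈ M := fun w hw => Or.inl (hEa w hw)
  have hMb : ∀ w, B b w = 0 → sx B b w (Q w) ∈ M := fun w hw => Or.inl (hEb w hw)
  have hMO : ∀ x ∈ M, x ∈ Dickson.orth Q := by
    rintro x (hx | hx)
    · exact (hEev x hx).1
    · obtain ⟨h, -⟩ := hEev _ hx
      have := mul_mem (show τ ∈ Dickson.orth Q from hτQ) h
      rwa [← mul_assoc, hτ2, one_mul] at this
  have hMS : ∀ x ∈ M, x ∈ Sp B := fun x hx u v => by
    have h := hMO x hx
    have := hQ.eq (x u) (x v)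
    rw [← map_add, h, h, h, hQ.eq] at this
    linear_combination -this
  -- singular vectors
  have sing : ∀ p, Q p = 0 → B a p ≠ 0 → ∃ m ∈ M, p = B a p • m a := by
    intro p hp hap
    obtain ⟨p', hp'⟩ : ∃ p', p' = (B a p)⁻¹ • p := ⟨_, rfl⟩
    have hap' : B a p' = 1 := by rw [hp', map_smul, smul_eq_mul, inv_mul_cancel₀ hap]
    set w := p' + b + B p' b • a with hw
    have haw : B a w = 0 := by simp [hw, hap', hab, hS.self, CharTwo.add_self_eq_zero]
    have hbw : B b w = 0 := by simp [hw, hba, hS.self, comm hS b p', CharTwo.add_self_eq_zero]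
    have hdec : p' = w + (b + B p' b • a) := by
      rw [hw, add_assoc p' b, add_assoc p', vadd_self (F := F), add_zero]
    have hQw : Q w = B p' b := by
      have h0 : Q p' = 0 := by rw [hp', Polar.smul, hp, mul_zero]
      generalize B p' b = κ at hdec ⊢
      rw [hdec, hQ.eq, hQ.eq b, Polar.smul, hQa, hQb] at h0
      simp [hba, comm hS w b, hbw, comm hS w a, haw] at h0
      exact CharTwo.add_eq_zero.1 h0
    have hx : sx B a w (Q w) b = p' := by
      rw [sx_apply hS haw, hba, hbw, hQw]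
      conv_rhs => rw [hdec]
      simp; abel
    refine ⟨sx B a w (Q w) * τ, mul_mem (hMa w haw) hτM, ?_⟩
    rw [LinearEquiv.mul_apply, hτa, hx, hp', smul_inv_smul₀ hap]
  have hBτ : ∀ z, B a (τ z) = B b z := fun z => by conv_lhs => rw [← hτb, hτS]
  have sing' : ∀ p, Q p = 0 → p ≠ 0 → ∃ m ∈ M, ∃ s : F, s ≠ 0 ∧ p = s • m a := by
    intro p hp hp0
    by_cases hap : B a p = 0
    swap
    · obtain ⟨m, hm, h⟩ := sing p hp hap
      exact ⟨m, hm, _, hap, h⟩
    by_cases hbp : B b p = 0
    swap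
    · obtain ⟨m, hm, h⟩ := sing (τ p) (by rw [hτQ, hp]) (by rwa [hBτ])
      refine ⟨τ * m, mul_mem hτM hm, B a (τ p), (by rwa [hBτ]), ?_⟩
      rw [LinearEquiv.mul_apply, ← map_smul, ← h, ← LinearEquiv.mul_apply, hτ2]
      rfl
    · -- translate out of the orthogonal of `b`
      have hind : ∀ t : F, p ≠ t • a := fun t h => hp0 (by
        have := hbp
        rw [h, map_smul, smul_eq_mul, hba, mul_one] at this
        rw [h, this, zero_smul])
      obtain ⟨w, hwa, hwp⟩ := exists_two hS ha0 hind 0 1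
      have haw : B a w = 0 := by rw [comm hS, hwa]
      have hbx : B b (sx B a w (Q w) p) ≠ 0 := by
        rw [sx_apply hS haw, comm hS p a, hap]
        simp [hbp, comm hS p w, hwp, hba]
      have hQx : Q (sx B a w (Q w) p) = 0 := by rw [sx_isometry hS hQ hQa haw, hp]
      obtain ⟨m, hm, h⟩ := sing (τ (sx B a w (Q w) p)) (by rw [hτQ, hQx]) (by rwa [hBτ])
      refine ⟨sx B a w (Q w) * (τ * m), mul_mem (hMa w haw) (mul_mem hτM hm), _,
        (show B a (τ (sx B a w (Q w) p)) ≠ 0 by rwa [hBτ]), ?_⟩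
      rw [LinearEquiv.mul_apply, LinearEquiv.mul_apply, ← map_smul, ← map_smul, ← h,
        ← LinearEquiv.mul_apply τ τ, hτ2]
      exact (sx_self_apply hS haw _ p).symm
  have siegel : ∀ p q, Q p = 0 → B p q = 0 → sx B p q (Q q) ∈ M := by
    intro p q hp hpq
    by_cases hp0 : p = 0
    · subst hp0
      have : sx B (0 : V) q (Q q) = 1 := by
        ext v; rw [sx_apply hS hpq]; simp
      rw [this]; exact one_mem _
    obtain ⟨m, hm, s, hs, rfl⟩ := sing' p hp hp0
    have hq' : B (m a) q = 0 := by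
      rw [map_smul, LinearMap.smul_apply, smul_eq_mul, mul_eq_zero] at hpq
      exact hpq.resolve_left hs
    obtain ⟨q', hqq⟩ := m.surjective (s • q)
    have haq : B a q' = 0 := by
      rw [← hMS m hm, hqq, map_smul, hq', smul_zero]
    have := mul_mem (mul_mem hm (hMa q' haq)) (inv_mem hm)
    rw [sx_conj hS (hMS m hm) haq] at this
    rw [sx_smul_centre hS hq', ← hqq, ← Polar.smul (Q := Q), ← hqq, hMO m hm q']
    exact this
  -- transvections
  have transv : ∀ c, Q c ≠ 0 → sx B c 0 (Q c)⁻¹ ∈ M := by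
    intro c hc
    -- a singular vector orthogonal to `c`
    obtain ⟨p, hp, hp0, hpc⟩ : ∃ p, Q p = 0 ∧ p ≠ 0 ∧ B p c = 0 := by
      by_cases hac : B a c = 0
      · exact ⟨a, hQa, ha0, hac⟩
      obtain ⟨d, hd⟩ : ∃ d, d = (B a c)⁻¹ • c := ⟨_, rfl⟩
      have had : B a d = 1 := by rw [hd, map_smul, smul_eq_mul, inv_mul_cancel₀ hac]
      obtain ⟨u, hu⟩ : ∃ u, u = d + b + B b d • a := ⟨_, rfl⟩
      have hau : B a u = 0 := by simp [hu, had, hab, hS.self, CharTwo.add_self_eq_zero]
      have hbu : B b u = 0 := by simp [hu, hba, hS.self, CharTwo.add_self_eq_zero]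
      have hθ : Refines B a (fun v => Q v) := ⟨fun x y _ _ => hQ.eq x y, fun x t hx => by
        show Q _ = Q x
        rw [hQ.eq, Polar.smul, hQa, map_smul, comm hS x a, hx, smul_zero, mul_zero, add_zero, add_zero]⟩
      obtain ⟨x, hax, hbx, hx⟩ := hθ.surj hS hdim hab (B b d + Q u)
      have hax' : B a (x + u) = 0 := by rw [map_add, hax, hau, add_zero]
      have hdc : c = B a c • d := by rw [hd, smul_inv_smul₀ hac]
      refine ⟨sx B a (x + u) (Q (x + u)) b, by rw [sx_isometry hS hQ hQa hax', hQb],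
        fun h => hb0 ((sx B a (x + u) (Q (x + u))).injective (h.trans (map_zero _).symm)), ?_⟩
      rw [hdc, map_smul, sx_apply hS hax']
      have hx' : Q (x + u) = Q x + Q u + B x u := hQ.eq x u
      have hdd : d = u + (b + B b d • a) := by
        conv_rhs => rw [hu, add_assoc d b, add_assoc, vadd_self (F := F), add_zero]
      have hdu : B u d = 0 := by
        rw [hdd]; simp [hS.self, comm hS u b, hbu, comm hS u a, hau]
      have hdx : B x d = B x u := by
        conv_lhs => rw [hdd]
        simp [comm hS x b, hbx, comm hS x a, hax]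
      simp [hba, hbu, hbx, had, hdx, hdu, hx', hx]
      right
      ring_nf
      simp [two_eq_zero']
    obtain ⟨m, hm, s, hs, rfl⟩ := sing' p hp hp0
    obtain ⟨c', rfl⟩ := m.surjective c
    have hac' : B a c' = 0 := by
      rw [map_smul, LinearMap.smul_apply, hMS m hm, smul_eq_mul, mul_eq_zero] at hpc
      exact hpc.resolve_left hs
    rw [hMO m hm c'] at hc ⊢
    suffices h : sx B c' 0 (Q c')⁻¹ ∈ M by
      have := mul_mem (mul_mem hm h) (inv_mem hm)
      rwa [sx_conj hS (hMS m hm) (map_zero _), map_zero] at this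
    -- translate into the orthogonal of `⟨a, b⟩`
    obtain ⟨u, hu⟩ : ∃ u, u = c' + B b c' • a := ⟨_, rfl⟩
    have hau : B a u = 0 := by simp [hu, hac', hS.self]
    have hbu : B b u = 0 := by simp [hu, hba, CharTwo.add_self_eq_zero]
    have hQu : Q u = Q c' := by
      rw [hu, hQ.eq, Polar.smul, hQa, map_smul, comm hS c' a, hac', smul_zero, mul_zero, add_zero, add_zero]
    have hu0 : u ≠ 0 := fun h => hc (by rw [← hQu, h, QuadraticMap.map_zero])
    obtain ⟨w, hwa, hwu⟩ := exists_two hS ha0 (b := u) (fun t h => hu0 (by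
      have := hbu
      rw [h, map_smul, smul_eq_mul, hba, mul_one] at this
      rw [h, this, zero_smul])) 0 (B b c')
    have haw : B a w = 0 := by rw [comm hS, hwa]
    suffices h : sx B u 0 (Q u)⁻¹ ∈ M by
      have hconj := mul_mem (mul_mem (hMa w haw) h) (inv_mem (hMa w haw))
      rw [sx_conj hS (sx_mem hS haw _) (map_zero _), map_zero, hQu] at hconj
      convert hconj using 2
      rw [sx_apply hS haw, comm hS u a, hau, comm hS u w, hwu, hu]
      match_scalars <;> ring_nf <;> simp [two_eq_zero']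
    -- scale to norm one
    obtain ⟨t, ht⟩ := sq_surjective (Q u)⁻¹
    rw [hQu] at ht
    obtain ⟨u1, hu1⟩ : ∃ u1, u1 = t • u := ⟨_, rfl⟩
    have hQ1 : Q u1 = 1 := by rw [hu1, Polar.smul, hQu, ht, inv_mul_cancel₀ hc]
    have hau1 : B a u1 = 0 := by rw [hu1, map_smul, hau, smul_zero]
    have hbu1 : B b u1 = 0 := by rw [hu1, map_smul, hbu, smul_zero]
    have e1 : sx B u 0 (Q u)⁻¹ = sx B u1 0 1 := by
      rw [hu1, sx_smul_centre hS (map_zero _), smul_zero, mul_one, hQu, ht]
    have e2 : sx B u1 0 1 = τ * (sx B a u1 (Q u1) * sx B b u1 (Q u1) * sx B a u1 (Q u1)) := by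
      ext v
      simp only [LinearEquiv.mul_apply, hτv, sx_apply hS hau1, sx_apply hS hbu1,
        sx_apply hS (map_zero (B u1)), hQ1, map_add, map_smul, LinearMap.add_apply, LinearMap.smul_apply,
        smul_eq_mul, hS.self, hab, hba, comm hS u1 a, hau1, comm hS u1 b, hbu1, map_zero]
      match_scalars <;> ring_nf <;>
        simp [two_eq_zero', four_eq_zero', six_eq_zero', eight_eq_zero', ten_eq_zero', three_eq_one', five_eq_one']
    rw [e1, e2]
    exact mul_mem hτM (mul_mem (mul_mem (hMa _ hau1) (hMb _ hbu1)) (hMa _ hau1))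
  -- every isometry lies in `M`
  have all : g ∈ M := by
    refine mem_of_grow g (· ∈ Dickson.orth Q) hg fun h hh h1 => ?_
    have hhB : ∀ x y, B (h x) (h y) = B x y := fun x y => by
      have := hQ.eq (h x) (h y)
      rw [← map_add, hh, hh, hh, hQ.eq] at this
      linear_combination -this
    have hperp : ∀ x u, h x = x → B x (h u + u) = 0 := fun x u hx => by
      rw [map_add]; nth_rw 1 [← hx]; rw [hhB, CharTwo.add_self_eq_zero]
    have hQd : ∀ u, Q (h u + u) = B u (h u) := fun u => by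
      rw [hQ.eq, hh, CharTwo.add_self_eq_zero, zero_add, comm hS]
    by_cases hv : ∃ v, B v (h v) ≠ 0
    · obtain ⟨v, hv⟩ := hv
      have ht := transv (h v + v) (by rwa [hQd])
      refine ⟨_, ht, mul_mem (hMO _ ht) hh, fun x hx => ?_, v, fun e => hv (by rw [e, hS.self]), ?_⟩
      · simp [sx_apply hS (map_zero (B (h v + v))), hperp x v hx]
      · rw [sx_apply hS (map_zero _), hQd, map_add, hS.self, zero_add, comm hS (h v) v, smul_zero,
          add_zero, map_zero, zero_smul, add_zero, inv_mul_cancel₀ hv, one_smul, ← add_assoc,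
          vadd_self (F := F), zero_add]
    push Not at hv
    have hsym : ∀ x y, B x (h y) = B y (h x) := fun x y => by
      have := hv (x + y)
      simp only [map_add, LinearMap.add_apply, hv, zero_add, add_zero] at this
      exact (CharTwo.add_eq_zero.1 this).symm
    obtain ⟨v, hv'⟩ : ∃ v, h v ≠ v := by
      by_contra hc
      push Not at hc
      exact h1 (LinearEquiv.ext hc)
    obtain ⟨p, hp⟩ : ∃ p, p = h v + v := ⟨_, rfl⟩
    have hp0 : p ≠ 0 := fun e => hv' (veq_of_add (F := F) (by rw [← hp, e]))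
    obtain ⟨w, hw⟩ := exists_one hS hp0
    obtain ⟨q, hq⟩ : ∃ q, q = h w + w := ⟨_, rfl⟩
    have hpq : B p q = 0 := by
      simp only [hp, hq, map_add, LinearMap.add_apply, hhB v w, hsym v w, comm hS (h v) w]
      ring_nf; simp [two_eq_zero']
    have hQq : Q q = 0 := by rw [hq, hQd, hv]
    have hQp : Q p = 0 := by rw [hp, hQd, hv]
    have hsx := siegel p q hQp hpq
    rw [hQq] at hsx
    refine ⟨_, hsx, mul_mem (hMO _ hsx) hh, fun x hx => ?_, v, hv', ?_⟩
    · rw [sx_apply hS hpq, show B x p = 0 by rw [hp]; exact hperp x v hx,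
        show B x q = 0 by rw [hq]; exact hperp x w hx]
      simp
    · have e1 : B (h v) p = 0 := by rw [hp, map_add, hS.self, comm hS, hv, add_zero]
      have hvq : B v q = 1 := by
        rw [← hw, hp, hq]; simp only [map_add]; rw [hsym v w, comm hS v w]
      have e2 : B (h v) q = 1 := by
        rw [← hvq, hq]; simp only [map_add]
        rw [hhB v w, comm hS (h v) w, hsym w v, add_comm]
      rw [sx_apply hS hpq, e1, e2, zero_smul, add_zero, one_smul, mul_zero, zero_smul, add_zero, hp,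
        ← add_assoc, vadd_self (F := F), zero_add]
  -- parity
  rcases all with h | h
  · exact hEL h
  exfalso
  obtain ⟨h', ph⟩ := hEev _ h
  have hτorth : τ ∈ Dickson.orth Q := hτQ
  have pτ : Dickson.parity (⟨τ, hτorth⟩ : Dickson.orth Q) = 1 := by
    have h1 : rk2 τ = 1 := by
      rw [hτ]
      exact rk2_transvection hS (fun h0 => by
        rw [h0, QuadraticMap.map_zero] at hQab; exact zero_ne_one hQab) one_ne_zero
    simp only [rk2] at h1
    show ((finrank F (LinearMap.range _) : ℕ) : ZMod 2) = 1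
    rw [show Dickson.disp (⟨τ, hτorth⟩ : Dickson.orth Q) = τ.toLinearMap + LinearMap.id from rfl, h1]
    rfl
  have := hmul ⟨τ, hτorth⟩ ⟨g, hg⟩
  rw [show (⟨τ, hτorth⟩ * ⟨g, hg⟩ : Dickson.orth Q) = ⟨τ * g, h'⟩ from rfl, ph, pτ,
    (rk2_parity (⟨g, hg⟩ : Dickson.orth Q)).2 hev] at this
  exact zero_ne_one this

end CfsgLib.TransvComp
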