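import Cfsg.Agent.TransvComp.CaseTwo

/-!
# A rigid orbit gives an invariant quadratic form
-/

set_option autoImplicit false
set_option linter.unusedSectionVars false
set_option linter.unusedSimpArgs false
set_option linter.unnecessarySeqFocus false
set_option linter.unusedVariables false

namespace CfsgLib.TransvComp

open Module

variable {F V : Type*} [Field F] [CharP F 2] [Finite F] [AddCommGroup V] [Module F V]
  [FiniteDimensional F V] {B : LinearMap.BilinForm F V} {L : Subgroup (V ≃ₗ[F] V)}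

theorem rigid_pair (hS : Symp B) (hL : L ≤ Sp B) {e : V} (hR : Rigid B L e) {a b u : V} {θ φ : V → F}
    (ha : InOrb L e a) (hb : InOrb L e b) (hθ : Comp B L a θ) (hφ : Comp B L b φ) (hab : B a b = 1)
    (hau : B a u = 0) (hbu : B b u = 0) (hu : φ u ≠ 0) : θ ((φ u)⁻¹ • u) = (φ u)⁻¹ := by
  have hba : B b a = 1 := by rw [comm hS, hab]
  have hp := (ha.map (hφ.mem hbu)).smul (inv_ne_zero hu)
  have e1 : (φ u)⁻¹ • sx B b u (φ u) a = (φ u)⁻¹ • a + (φ u)⁻¹ • u + b := by
    rw [sx_apply hS hbu, hab, hau]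
    match_scalars <;> field_simp <;> ring_nf
  rw [e1] at hp
  have h1 : B a ((φ u)⁻¹ • a + (φ u)⁻¹ • u + b) = 1 := by simp [hS.self, hau, hab]
  have h := hR a b _ θ ha hb hp hθ hab h1
  have h2 : B ((φ u)⁻¹ • a + (φ u)⁻¹ • u + b) b = (φ u)⁻¹ := by
    simp [hab, hS.self, comm hS u b, hbu]
  have e2 : (φ u)⁻¹ • a + (φ u)⁻¹ • u + b + b + (φ u)⁻¹ • a = (φ u)⁻¹ • u := by
    match_scalars <;> ring_nf <;> simp [two_eq_zero', CharTwo.add_self_eq_zero]
  rw [h2, e2] at h
  have h3 := congrArg (B b) h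
  rw [sx_apply hS (by simp [hau])] at h3
  simpa [hS.self, hba, hbu, comm hS u b] using h3

theorem rigid_zero (hS : Symp B) (hL : L ≤ Sp B) {e : V} {θ0 : V → F} (hc : Comp B L e θ0)
    (hR : Rigid B L e) {a b u : V} {θ φ : V → F} (ha : InOrb L e a) (hb : InOrb L e b)
    (hθ : Comp B L a θ) (hφ : Comp B L b φ) (hab : B a b = 1) (hau : B a u = 0) (hbu : B b u = 0)
    (hu : φ u = 0) (s : F) : θ (s • u) = 0 := by
  by_cases hq : ∃ c : F, c ≠ 0 ∧ c ≠ 1
  · exact orb_zero_line hS hL (Or.inl hq) hc ha hθ hφ hab hau hbu hu s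
  push Not at hq
  rcases eq_or_ne s 0 with rfl | hs
  · rw [zero_smul, (hθ.refines hS).zero hS]
  rw [hq s hs, one_smul]
  by_contra hne
  have h := rigid_pair hS hL hR hb ha hφ hθ (by rw [comm hS, hab]) hbu hau hne
  rw [hq _ hne, inv_one, one_smul, hu] at h
  exact zero_ne_one h

/-- Both functions are the same quadratic form off `⟨a, b⟩`. -/
theorem rigid_homogeneous (hS : Symp B) (hL : L ≤ Sp B) {e : V} {θ0 : V → F} (hc : Comp B L e θ0)
    (hR : Rigid B L e) {a b u : V} {θ φ : V → F} (ha : InOrb L e a) (hb : InOrb L e b)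
    (hθ : Comp B L a θ) (hφ : Comp B L b φ) (hab : B a b = 1) (hau : B a u = 0) (hbu : B b u = 0)
    (s : F) : θ (s • u) = s * s * φ u ∧ φ (s • u) = s * s * φ u := by
  have hba : B b a = 1 := by rw [comm hS, hab]
  have hax : ∀ x : F, B a (x • u) = 0 := fun x => by simp [hau]
  have hbx : ∀ x : F, B b (x • u) = 0 := fun x => by simp [hbu]
  by_cases hzero : ∃ x : F, x ≠ 0 ∧ φ (x • u) = 0
  · obtain ⟨x, hx, hx0⟩ := hzero
    have hθ0 : ∀ y : F, θ (y • u) = 0 := fun y => by
      have := rigid_zero hS hL hc hR ha hb hθ hφ hab (hax x) (hbx x) hx0 (y * x⁻¹)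
      rwa [smul_smul, inv_mul_cancel_right₀ hx] at this
    have hφ0 : ∀ y : F, φ (y • u) = 0 := fun y => by
      have := rigid_zero hS hL hc hR hb ha hφ hθ hba (hbx 1) (hax 1) (hθ0 1) y
      rwa [one_smul] at this
    have h1 := hφ0 1
    rw [one_smul] at h1
    rw [hθ0, hφ0, h1, mul_zero]
    exact ⟨rfl, rfl⟩
  push Not at hzero
  have hadd : ∀ (ψ : V → F) (c : V), Comp B L c ψ → B c u = 0 → ∀ x y : F,
      ψ ((x + y) • u) = ψ (x • u) + ψ (y • u) := fun ψ c hψ hcu x y => by
    rw [add_smul, (hψ.refines hS).add _ _ (by simp [hcu]) (by simp [hcu])]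
    simp [hS.self]
  let Φ : F →+ F :=
    { toFun := fun x => φ (x • u)
      map_zero' := by simp [(hφ.refines hS).zero hS]
      map_add' := hadd φ b hφ hbu }
  let Θ : F →+ F :=
    { toFun := fun x => θ (x • u)
      map_zero' := by simp [(hθ.refines hS).zero hS]
      map_add' := hadd θ a hθ hau }
  have hΦi : Function.Injective Φ :=
    (injective_iff_map_eq_zero Φ).2 fun x hx => by_contra fun h => hzero x h hx
  have hΘi : Function.Injective Θ := (injective_iff_map_eq_zero Θ).2 fun x hx => by_contra fun h => by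
    have := rigid_zero hS hL hc hR hb ha hφ hθ hba (hbx x) (hax x) hx 1
    rw [one_smul] at this
    exact hzero x h this
  have hid : ∀ x : F, x ≠ 0 → Θ (x / Φ x) = (Φ x)⁻¹ := fun x hx => by
    have := rigid_pair hS hL hR ha hb hθ hφ hab (hax x) (hbx x) (hzero x hx)
    rw [smul_smul] at this
    show θ ((x / φ (x • u)) • u) = _
    rw [div_eq_inv_mul]
    exact this
  let Φ' := AddEquiv.ofBijective Φ ⟨hΦi, Finite.injective_iff_surjective.1 hΦi⟩
  let Θ' := AddEquiv.ofBijective Θ ⟨hΘi, Finite.injective_iff_surjective.1 hΘi⟩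
  have hA : ∀ y : F, y ≠ 0 → Θ'.symm y⁻¹ = Φ'.symm y / y := by
    intro y hy
    have hx : Φ'.symm y ≠ 0 := fun h => hy (by
      rw [← Φ'.apply_symm_apply y, h, map_zero])
    have hΦy : Φ (Φ'.symm y) = y := Φ'.apply_symm_apply y
    have := hid _ hx
    rw [hΦy] at this
    rw [AddEquiv.symm_apply_eq]
    exact this.symm
  -- Hua's identity
  have hC : ∀ y : F, Φ'.symm (y * y) = Φ'.symm 1 * y := by
    intro y
    rcases eq_or_ne y 0 with rfl | hy
    · simp
    rcases eq_or_ne y 1 with rfl | hy1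
    · simp
    have hy' : 1 + y ≠ 0 := fun h => hy1 (CharTwo.add_eq_zero.1 h).symm
    have hyy : y + y * y ≠ 0 := by
      rw [show y + y * y = y * (1 + y) by ring]; exact mul_ne_zero hy hy'
    have hrec : y⁻¹ + (1 + y)⁻¹ = (y + y * y)⁻¹ := by
      field_simp
      ring_nf
      simp [two_eq_zero']
    have h := map_add Θ'.symm y⁻¹ (1 + y)⁻¹
    rw [hrec, hA _ hyy, hA _ hy, hA _ hy', map_add, map_add] at h
    field_simp at h
    rw [← pow_two y]; linear_combination h + Φ'.symm y * y * two_eq_zero' (F := F)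
  have hc1 : Φ'.symm 1 ≠ 0 := fun h => one_ne_zero (α := F) (by
    rw [← Φ'.apply_symm_apply 1, h, map_zero])
  set c := Φ'.symm 1
  have hΦ : ∀ x, Φ x = x * x * φ u := by
    intro x
    have h1 : ∀ z, Φ z = (z / c) * (z / c) := fun z => by
      have := hC (z / c)
      rw [mul_div_cancel₀ _ hc1, AddEquiv.symm_apply_eq] at this
      exact this.symm
    have h2 : Φ 1 = φ u := by show φ ((1 : F) • u) = φ u; rw [one_smul]
    rw [← h2, h1, h1]
    ring
  have hu : φ u ≠ 0 := by simpa using hzero 1 one_ne_zero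
  refine ⟨?_, hΦ s⟩
  rcases eq_or_ne s 0 with rfl | hs
  · simp [(hθ.refines hS).zero hS]
  have := hid (s * φ u)⁻¹ (inv_ne_zero (mul_ne_zero hs hu))
  rw [hΦ] at this
  show Θ s = _
  convert this using 1
  · congr 1; field_simp
  · field_simp

variable (B) in
/-- `Q` is a quadratic form with polar form `B`. -/
structure Polar (Q : QuadraticForm F V) : Prop where
  eq : ∀ x y, Q (x + y) = Q x + Q y + B x y

theorem Polar.smul {Q : QuadraticForm F V} (s : F) (x : V) : Q (s • x) = s * s * Q x := by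
  rw [QuadraticMap.map_smul, smul_eq_mul]

/-- The form attached to a pair. -/
theorem exists_form (hS : Symp B) (hL : L ≤ Sp B) {e : V} {θ0 : V → F} (hc : Comp B L e θ0)
    (hR : Rigid B L e) {a b : V} {θ φ : V → F} (ha : InOrb L e a) (hb : InOrb L e b)
    (hθ : Comp B L a θ) (hφ : Comp B L b φ) (hab : B a b = 1) :
    ∃ Q : QuadraticForm F V, Polar B Q ∧ Q a = 0 ∧ Q b = 0 ∧
      (∀ w, B a w = 0 → θ w = Q w) ∧ (∀ w, B b w = 0 → φ w = Q w) := by
  have hba : B b a = 1 := by rw [comm hS, hab]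
  let P : V →ₗ[F] V := LinearMap.id + (B.flip b).smulRight a + (B.flip a).smulRight b
  have hP : ∀ v, P v = v + B v b • a + B v a • b := fun v => rfl
  have hPa : ∀ v, B a (P v) = 0 := fun v => by
    simp [hP, hS.self, hab, comm hS a v, CharTwo.add_self_eq_zero]
  have hPb : ∀ v, B b (P v) = 0 := fun v => by
    simp [hP, hS.self, hba, comm hS b v, CharTwo.add_self_eq_zero]
  have hθadd := fun v w => (hθ.refines hS).add (P v) (P w) (hPa v) (hPa w)
  have hhom : ∀ (s : F) v, θ (s • P v) = s * s * θ (P v) := fun s v => by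
    have h1 := (rigid_homogeneous hS hL hc hR ha hb hθ hφ hab (hPa v) (hPb v) s).1
    have h2 := (rigid_homogeneous hS hL hc hR ha hb hθ hφ hab (hPa v) (hPb v) 1).1
    rw [one_smul, one_mul, one_mul] at h2
    rw [h1, h2]
  have hBP : ∀ v w, B (P v) (P w) = B v w + B v a * B w b + B v b * B w a := fun v w => by
    simp only [hP, map_add, map_smul, LinearMap.add_apply, LinearMap.smul_apply, smul_eq_mul, hS.self,
      hab, hba, comm hS a w, comm hS b w]
    ring_nf
    simp [two_eq_zero', four_eq_zero', three_eq_one']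
  let Q : QuadraticForm F V :=
    { toFun := fun v => B v a * B v b + θ (P v)
      toFun_smul := fun s v => by
        simp only [map_smul, LinearMap.smul_apply, smul_eq_mul, hhom]
        ring
      exists_companion' := ⟨B, fun v w => by
        simp only [map_add, LinearMap.add_apply, hθadd, hBP]
        ring_nf
        simp [two_eq_zero']⟩ }
  have hQ : ∀ v, Q v = B v a * B v b + θ (P v) := fun v => rfl
  refine ⟨Q, ⟨fun x y => ?_⟩, ?_, ?_, fun w hw => ?_, fun w hw => ?_⟩
  · simp only [hQ, map_add, LinearMap.add_apply, hθadd, hBP]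
    ring_nf
    simp [two_eq_zero']
  · rw [hQ, hP, hab, hS.self, zero_mul, zero_add, one_smul, zero_smul, add_zero, vadd_self (F := F),
      (hθ.refines hS).zero hS]
  · rw [hQ, hP, hba, hS.self, mul_zero, zero_add, one_smul, zero_smul, add_zero, vadd_self (F := F),
      (hθ.refines hS).zero hS]
  · rw [hQ, hP, comm hS w a, hw, zero_mul, zero_add, zero_smul, add_zero,
      (hθ.refines hS).centre _ _ hw]
  · have h1 := (rigid_homogeneous hS hL hc hR ha hb hθ hφ hab (hPa w) (hPb w) 1).1
    rw [one_smul, one_mul, one_mul] at h1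
    rw [hQ, h1, hP, comm hS w b, hw, mul_zero, zero_add, zero_smul, add_zero,
      (hφ.refines hS).centre _ _ hw]

/-- Siegel elements at singular points are isometries of `Q`. -/
theorem sx_isometry (hS : Symp B) {Q : QuadraticForm F V} (hQ : Polar B Q) {p w : V} (hp : Q p = 0)
    (hw : B p w = 0) (v : V) : Q (sx B p w (Q w) v) = Q v := by
  rw [sx_apply hS hw]
  simp only [hQ.eq, Polar.smul, hp, map_add, map_smul, LinearMap.add_apply, LinearMap.smul_apply,
    smul_eq_mul, hS.self, hw, comm hS w p]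
  ring_nf
  simp [two_eq_zero']

/-- The group of a rigid orbit preserves the form. -/
theorem isometry_of_rigid (hS : Symp B) (hL : L ≤ Sp B) {e : V} {θ0 : V → F} (hc : Comp B L e θ0)
    (hR : Rigid B L e) {a b : V} {θ φ : V → F} (ha : InOrb L e a) (hb : InOrb L e b)
    (hθ : Comp B L a θ) (hφ : Comp B L b φ) (hab : B a b = 1) {Q : QuadraticForm F V}
    (hQ : Polar B Q) (hQa : Q a = 0) (hQb : Q b = 0) (hθQ : ∀ w, B a w = 0 → θ w = Q w)
    (hφQ : ∀ w, B b w = 0 → φ w = Q w) : ∀ g ∈ L, ∀ v, Q (g v) = Q v := by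
  have hba : B b a = 1 := by rw [comm hS, hab]
  -- singular points with the Siegel complement
  let SG : V → Prop := fun p => InOrb L e p ∧ Q p = 0 ∧ Comp B L p (fun w => Q w)
  have congr' : ∀ {p : V} {ψ : V → F}, Comp B L p ψ → (∀ w, B p w = 0 → ψ w = Q w) →
      Comp B L p (fun w => Q w) := fun h he w hw c => by
    rw [h w hw c, he w hw]
  have hSa : SG a := ⟨ha, hQa, congr' hθ hθQ⟩
  have hSb : SG b := ⟨hb, hQb, congr' hφ hφQ⟩
  have step : ∀ a' b' p, SG a' → SG b' → B a' b' = 1 → InOrb L e p → B a' p ≠ 0 → SG p := by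
    intro a' b' p ha' hb' hab' hp hne
    have hp' := hp.smul (inv_ne_zero hne)
    have h1 : B a' ((B a' p)⁻¹ • p) = 1 := by rw [map_smul, smul_eq_mul, inv_mul_cancel₀ hne]
    have hR' := hR a' b' _ _ ha'.1 hb'.1 hp' ha'.2.2 hab' h1
    set w := (B a' p)⁻¹ • p + b' + B ((B a' p)⁻¹ • p) b' • a' with hw
    have haw : B a' w = 0 := by simp [hw, hne, hab', hS.self, CharTwo.add_self_eq_zero]
    have hxL := ha'.2.2.mem haw
    have hiso := sx_isometry hS hQ ha'.2.1 haw
    have hC' := (hb'.2.2.map hS hL hxL).smul hS hne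
    rw [hR', smul_inv_smul₀ hne] at hC'
    refine ⟨hp, ?_, congr' hC' fun z hz => ?_⟩
    · have := hiso b'
      rw [hR', hb'.2.1, Polar.smul, mul_eq_zero] at this
      exact this.resolve_left (mul_ne_zero (inv_ne_zero hne) (inv_ne_zero hne))
    · have h2 : Q ((sx B a' w (Q w))⁻¹ (B a' p • z)) = Q (B a' p • z) := by
        conv_rhs => rw [← apply_inv_self (sx B a' w (Q w)) (B a' p • z), hiso]
      show _ * Q _ = _
      rw [h2, Polar.smul, inv_mul_cancel_left₀ (mul_ne_zero hne hne)]
  have all : ∀ p, InOrb L e p → SG p := by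
    intro p hp
    by_cases hap : B a p = 0
    swap
    · exact step a b p hSa hSb hab hp hap
    by_cases hp0 : p = 0
    · obtain ⟨g, hg, s, hs, hgs⟩ := hp
      obtain ⟨g', hg', s', hs', hgs'⟩ := ha
      exfalso
      have he : e = 0 := by
        have : g e = 0 := by
          rw [hp0] at hgs
          exact (smul_eq_zero.1 hgs.symm).resolve_left hs
        exact g.injective (this.trans (map_zero g).symm)
      rw [hgs', he, map_zero, smul_zero, map_zero, LinearMap.zero_apply] at hab
      exact zero_ne_one hab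
    -- a translate of `b` not orthogonal to `p`
    obtain ⟨w, haw, hne⟩ : ∃ w, B a w = 0 ∧ B p (sx B a w (Q w) b) ≠ 0 := by
      by_cases hpb : B p b = 0
      · have hind : ∀ t : F, p ≠ t • a := fun t h => hp0 (by
          have := hpb
          rw [h, map_smul, LinearMap.smul_apply, smul_eq_mul, hab, mul_one] at this
          rw [h, this, zero_smul])
        have ha0 : a ≠ 0 := fun h => by
          rw [h, map_zero, LinearMap.zero_apply] at hab; exact zero_ne_one hab
        obtain ⟨w, hwa, hwp⟩ := exists_two hS ha0 hind 0 1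
        refine ⟨w, by rw [comm hS, hwa], ?_⟩
        rw [sx_apply hS (by rw [comm hS, hwa])]
        simp [hba, hpb, comm hS p a, hap, comm hS p w, hwp]
      · exact ⟨0, map_zero _, by simpa [sx_apply hS (map_zero (B a)), comm hS p a, hap] using hpb⟩
    have hxL : sx B a w (Q w) ∈ L := hSa.2.2.mem haw
    have hab'' : B a (sx B a w (Q w) b) = 1 := by
      rw [sx_apply hS haw]; simp [hab, haw, hS.self]
    have hSb' : SG (sx B a w (Q w) b) := step a b _ hSa hSb hab (hb.map hxL) (by
      rw [hab'']; exact one_ne_zero)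
    exact step _ a p hSb' hSa (by rw [comm hS, hab'']) hp (by rw [comm hS]; exact hne)
  intro g hg v
  have hga := all _ (ha.map hg)
  have hgb := all _ (hb.map hg)
  -- on the orthogonal of `a`
  have key : ∀ w, B a w = 0 → Q (g w) = Q w := fun w hw => by
    have h := (hga.2.2.unique (hSa.2.2.map hS hL hg) (show B (g a) (g w) = 0 by rw [hL hg, hw]))
    simpa [inv_apply_self] using h
  have hv : v = (v + B v a • b) + B v a • b := by
    rw [add_assoc, vadd_self (F := F), add_zero]
  have haw : B a (v + B v a • b) = 0 := by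
    simp [hab, comm hS a v, CharTwo.add_self_eq_zero]
  rw [hv, map_add, map_smul, hQ.eq, hQ.eq (v + B v a • b), key _ haw, Polar.smul, Polar.smul,
    hgb.2.1, hQb, ← map_smul, hL hg]

end CfsgLib.TransvComp
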